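import Cfsg.Agent.Lib.L34.T4
import Cfsg.Agent.Lib.Push.Dich
import Cfsg.Agent.S1221

/-! Sylow 2-subgroups of type `PSL₃(4)`: centralizers of involutions in the main case. -/

set_option autoImplicit false
set_option linter.unusedSectionVars false

namespace Cfsg.Lib.L34
open Subgroup Cfsg.Lib.Core Cfsg.Lib.BG1 Cfsg.Lib.Invol Cfsg.Lib.Layer
open Cfsg.Lib.Amalg hiding le_cent_symm op_top

universe u

variable {G : Type u} [Group G] [Finite G] {A B H K : Subgroup G} {a b c g n s t v w x y z : G}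

/-- all involutions of `A` are fused in `N(A)` -/
def Tr (A B : Subgroup G) : Prop := ∀ z ∈ A ⊓ B, z ≠ 1 → ∀ v ∈ A, v ≠ 1 → ∃ k ∈ 𝐍(A), k * z * k⁻¹ = v

namespace T
variable (h : T A B)
include h

theorem tr (hA : ¬ 𝐍(A) ≤ 𝐍(A ⊓ B)) : Tr A B := by
  obtain ⟨x, hx, h1⟩ := SetLike.not_le_iff_exists.1 hA
  have h' := h.conjN hx
  have k : Sp A B (A ⊓ cj x B) := ⟨inf_le_left, fun u hu hb => by_contra fun u1 =>
    h1 (cj_eq_self_iff.1 ((h.cj_Z hx).trans (h'.ti' h hu hb u1))), h'.cZ⟩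
  have key : ∀ z ∈ A ⊓ B, z ≠ 1 → ∀ u ∈ A ⊓ cj x B, u ≠ 1 → ∀ c ∈ A ⊓ B, ∃ k ∈ 𝐍(A), k * z * k⁻¹ = u * c := by
    intro z hz z1 u hu u1 c hc
    obtain ⟨b, hb, e⟩ := h.surj hu.1 (mt (k.dis u hu) u1) hc
    obtain ⟨b', hb', e'⟩ := h'.surj hz.1 (fun e => z1 (k.dis z ⟨hz.1, e⟩ hz.2)) hu
    obtain ⟨d, hd, e''⟩ := h.surj hu.1 (mt (k.dis u hu) u1) hz
    refine ⟨b * d⁻¹ * b', mul_mem (mul_mem (h.nA (mem_sup_right hb)) (inv_mem (h.nA (mem_sup_right hd))))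
      (h'.nA (mem_sup_right hb')), ?_⟩
    rw [inv_mul_eq_iff_eq_mul] at e e' e''
    rw [show b * d⁻¹ * b' * z * (b * d⁻¹ * b')⁻¹ = b * (d⁻¹ * (b' * z * b'⁻¹) * d) * b⁻¹ by group, e', h.comm hz.1 hu.1, ← e'', ← e]
    group
  intro z hz z1 v hv v1
  obtain ⟨u, hu, c, hc, rfl⟩ := h.dec k hv
  by_cases u1 : u = 1
  · obtain ⟨w, hw, w1⟩ := h'.exists_z
    obtain ⟨k1, h2, e⟩ := key z hz z1 w hw w1 1 (one_mem _)
    obtain ⟨k2, h3, e'⟩ := key c hc (by simpa [u1] using v1) w hw w1 1 (one_mem _)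
    exact ⟨k2⁻¹ * k1, mul_mem (inv_mem h3) h2, by
      rw [show k2⁻¹ * k1 * z * (k2⁻¹ * k1)⁻¹ = k2⁻¹ * (k1 * z * k1⁻¹) * k2 by group, e, ← e', u1]; group⟩
  · exact key z hz z1 u hu u1 c hc

theorem sub (hH : A ⊔ B ≤ H) : T (A.subgroupOf H) (B.subgroupOf H) := by
  have hA := le_sup_left.trans hH
  have hB := le_sup_right.trans hH
  refine ⟨fun a ha => Subtype.ext (h.sq a ha), fun a ha => Subtype.ext (h.sq' a ha),
    (Nat.card_congr (subgroupOfEquivOfLe hA).toEquiv).trans h.c, (Nat.card_congr (subgroupOfEquivOfLe hB).toEquiv).trans h.c',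
    (Nat.card_congr (subgroupOfEquivOfLe (inf_le_left.trans hA)).toEquiv).trans h.cZ, fun a ha b hb => h.cm a ha b hb,
    fun a ha b hb e => h.ne a ha b hb (congrArg Subtype.val e), ?_⟩
  rw [← subgroupOf_sup hA hB]
  exact (h.syl.of_le hH le_top).subgroupOf_top

theorem normal_of_center (hO : pPrimeCore 2 G = ⊥) (hz : z ∈ A ⊓ B) (z1 : z ≠ 1) (hc : z ∈ center G) : A.Normal :=
  h.normal hO fun n hn => inf_comm B A ▸ centralizer_le_normalizer _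
    (h.symm.alpha hn ⟨hz.2, hz.1⟩ z1 (by rw [mem_center_iff.1 hc, mul_inv_cancel_right]))

theorem mod_core : T (A.map (QuotientGroup.mk' (pPrimeCore 2 G))) (B.map (QuotientGroup.mk' (pPrimeCore 2 G))) ∧
    ∀ s ∈ A ⊔ B, QuotientGroup.mk' (pPrimeCore 2 G) s = 1 → s = 1 := by
  have : ∀ s ∈ A ⊔ B, QuotientGroup.mk' (pPrimeCore 2 G) s = 1 → s = 1 := fun s hs e =>
    (isPGroup_eq_bot_of_not_dvd (h.pS.to_le inf_le_left) inf_le_right
      ((Nat.Prime.coprime_iff_not_dvd Nat.prime_two).1 (coprime_card_pPrimeCore 2 G).symm)).le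
      ⟨hs, (QuotientGroup.eq_one_iff s).1 e⟩
  exact ⟨h.map (QuotientGroup.mk'_surjective _) this, this⟩

theorem solv_of_center (hz : z ∈ A ⊓ B) (z1 : z ≠ 1) (hc : z ∈ center G) : Group.IsSolvable G := by
  obtain ⟨h1, h2⟩ := h.mod_core
  have h3 : QuotientGroup.mk' (pPrimeCore 2 G) z ∈ center _ := mem_center_iff.2 fun g => by
    obtain ⟨g, rfl⟩ := QuotientGroup.mk'_surjective _ g
    rw [← map_mul, mem_center_iff.1 hc, map_mul]
  have h4 := mt (h2 z (mem_sup_left hz.1)) z1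
  have := h1.normal_of_center pPrimeCore_quotient_pPrimeCore ⟨mem_map_of_mem _ hz.1, mem_map_of_mem _ hz.2⟩ h4 h3
  have := h1.symm.normal_of_center pPrimeCore_quotient_pPrimeCore ⟨mem_map_of_mem _ hz.2, mem_map_of_mem _ hz.1⟩ h4 h3
  have := JTW.Cen.solvable_of_syl h1.syl le_normalizer_of_normal
  have := isSolvable_of_equiv (G' := G ⧸ pPrimeCore 2 G) topEquiv
  have := FT.solvable_of_not_two_dvd _ ((Nat.Prime.coprime_iff_not_dvd Nat.prime_two).1 (coprime_card_pPrimeCore 2 G).symm)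
  exact isSolvable_of_normal_of_quotient (pPrimeCore 2 G)

theorem S_le_cent (hz : z ∈ A ⊓ B) : A ⊔ B ≤ 𝐂[z] := fun _ hs => mem_centralizer_singleton_iff.2 (h.cZ' hs z hz).symm

theorem exists_conj (h1 : Tr A B) (h2 : Tr B A) (hz : z ∈ A ⊓ B) (z1 : z ≠ 1) (ht : orderOf t = 2) : ∃ g, g * z * g⁻¹ = t := by
  obtain ⟨g, -, hg⟩ := h.syl.exists_conj_le (Amalg.isPGroup_zpowers_of_orderOf (k := 1) ht) le_top
  have h3 : orderOf (g * t * g⁻¹) = 2 := by rw [orderOf_conj, ht]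
  have : ∃ k, k * z * k⁻¹ = g * t * g⁻¹ := by
    rcases h.inv_S (hg (conj_mem_cj g (mem_zpowers t))) (mul_self_of_two h3) with e | e
    · exact (h1 z hz z1 _ e (ne_one_of_two h3)).imp fun _ h => h.2
    · exact (h2 z ⟨hz.2, hz.1⟩ z1 _ e (ne_one_of_two h3)).imp fun _ h => h.2
  obtain ⟨k, e⟩ := this
  exact ⟨g⁻¹ * k, by rw [show g⁻¹ * k * z * (g⁻¹ * k)⁻¹ = g⁻¹ * (k * z * k⁻¹) * g by group, e]; group⟩

theorem le_of_normal (h1 : Tr A B) (h2 : Tr B A) [K.Normal] (hK : 2 ∣ Nat.card K) : A ⊔ B ≤ K := by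
  obtain ⟨t, ht⟩ := exists_prime_orderOf_dvd_card' 2 hK
  obtain ⟨z, hz, z1⟩ := h.exists_z
  have key : ∀ s, s * s = 1 → s ∈ K := fun s hs => by
    by_cases s1 : s = 1
    · exact s1 ▸ one_mem _
    obtain ⟨g, e⟩ := h.exists_conj h1 h2 hz z1 ((orderOf_coe t).trans ht)
    obtain ⟨k, rfl⟩ := h.exists_conj h1 h2 hz z1 (two_of_mul_self hs s1)
    have : z ∈ K := by simpa [mul_assoc] using Normal.conj_mem' inferInstance _ (show g * z * g⁻¹ ∈ K from e ▸ t.2) g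
    exact Normal.conj_mem inferInstance _ this k
  exact sup_le (fun a ha => key a (h.sq a ha)) fun a ha => key a (h.sq' a ha)

theorem core_cent (hO : pPrimeCore 2 G = ⊥) (h1 : Tr A B) (h2 : Tr B A) (hz : z ∈ A ⊓ B) (z1 : z ≠ 1) :
    pPrimeCore 2 𝐂[z] = ⊥ := by
  refine (map_eq_bot_iff_of_injective _ (subtype_injective _)).1 (Push.Dich.LC.th_eq_bot (fun t ht => ?_) (fun K hK => ?_)
    (fun H hH => Agent.S1221.result H hH) hO (fun hr => ?_) (two_of_mul_self (h.sqZ z hz) z1))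
  · obtain ⟨g, rfl⟩ := h.exists_conj h1 h2 hz z1 ht
    have := (h.conj g).sub ((h.conj g).S_le_cent ⟨conj_mem_cj g hz.1, conj_mem_cj g hz.2⟩)
    exact pLayerOf_eq_bot_of_solvable (this.solv_of_center (z := ⟨_, mem_centralizer_singleton_iff.2 rfl⟩)
      ⟨conj_mem_cj g hz.1, conj_mem_cj g hz.2⟩ (fun e => ne_one_of_two ht (congrArg Subtype.val e))
      (mem_center_iff.2 fun x => Subtype.ext (mem_centralizer_singleton_iff.1 x.2)))
  · have := normal_of_index_eq_two hK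
    have h3 := K.card_mul_index
    have h4 := card_subgroup_dvd_card A
    rw [h.c, ← h3, hK] at h4
    exact h.syl.not_dvd_index ((hK ▸ dvd_rfl : 2 ∣ K.index).trans (index_dvd_of_le (h.le_of_normal h1 h2 (by omega))))
  · have := hr A ⟨⟨fun x y => Subtype.ext (h.comm x.2 y.2)⟩⟩ fun a ha => by rw [pow_two, h.sq a ha]
    rw [h.c] at this
    omega

theorem cent_le (hz : z ∈ A ⊓ B) (z1 : z ≠ 1) (hO : pPrimeCore 2 𝐂[z] = ⊥) : 𝐂[z] ≤ 𝐍(A) ∧ 𝐂(A) = A := by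
  have h1 := h.sub (h.S_le_cent hz)
  have h2 := le_sup_left.trans (h.S_le_cent hz)
  have := h1.normal_of_center hO (z := ⟨z, mem_centralizer_singleton_iff.2 rfl⟩) hz (fun e => z1 (congrArg Subtype.val e))
    (mem_center_iff.2 fun x => Subtype.ext (mem_centralizer_singleton_iff.1 x.2))
  refine ⟨(normal_subgroupOf_iff_le_normalizer h2).1 this, le_antisymm (fun x hx => ?_) h.le_cent⟩
  exact (h1.cent_eq hO).le (x := ⟨x, mem_centralizer_singleton_iff.2 (hx z hz.1).symm⟩) fun a ha => Subtype.ext (hx a ha)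

end T

/-- the main case -/
structure Mn (A B : Subgroup G) : Prop extends T A B where
  tr : Tr A B
  tr' : Tr B A
  cz : ∀ z ∈ A ⊓ B, z ≠ 1 → 𝐂[z] ≤ 𝐍(A) ⊓ 𝐍(B)
  cA : 𝐂(A) = A
  cB : 𝐂(B) = B

theorem T.mn (h : T A B) (hO : pPrimeCore 2 G = ⊥) (hA : ¬ 𝐍(A) ≤ 𝐍(A ⊓ B)) (hB : ¬ 𝐍(B) ≤ 𝐍(B ⊓ A)) : Mn A B := by
  have h1 := fun z hz z1 => h.core_cent hO (h.tr hA) (h.symm.tr hB) (z := z) hz z1
  obtain ⟨z, hz, z1⟩ := h.exists_z
  exact ⟨h, h.tr hA, h.symm.tr hB, fun z hz z1 => le_inf (h.cent_le hz z1 (h1 z hz z1)).1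
    (h.symm.cent_le ⟨hz.2, hz.1⟩ z1 (h1 z hz z1)).1, (h.cent_le hz z1 (h1 z hz z1)).2,
    (h.symm.cent_le ⟨hz.2, hz.1⟩ z1 (h1 z hz z1)).2⟩

end Cfsg.Lib.L34
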