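import Cfsg.Agent.Lib.L34.T6
import Cfsg.Agent.Lib.Linear.OutPSL
import Cfsg.Agent.Lib.Linear.Simple
import Cfsg.Agent.Lib.Linear.Card
import Cfsg.Agent.Lib.Fus.UT3

/-! Groups with Sylow 2-subgroups of type `PSL₃(4)`. -/

set_option autoImplicit false
set_option linter.unusedSectionVars false

namespace Cfsg.Lib.L34
open Subgroup Cfsg.Lib.Core Cfsg.Lib.BG1 Cfsg.Lib.Invol Cfsg.Lib.Layer
open Cfsg.Lib.Amalg hiding le_cent_symm op_top
open scoped Pointwise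

universe u

local notation "SL" => Matrix.SpecialLinearGroup
local notation "PSL" => Matrix.ProjectiveSpecialLinearGroup

variable {G : Type u} [Group G] [Finite G] {A B K L S : Subgroup G} {c : G}

theorem T.le_or (h : T A B) (hO : pPrimeCore 2 G = ⊥) (h1 : Tr A B) (h2 : Tr B A) (K : Subgroup G) [K.Normal] :
    K = ⊥ ∨ A ⊔ B ≤ K :=
  (em _).symm.imp (fun e => eq_bot_of_pPrimeCore_eq_bot hO ((Nat.prime_two.coprime_iff_not_dvd.2 e).symm)) (h.le_of_normal h1 h2)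

theorem T.cS (h : T A B) : Nat.card ↥(A ⊔ B) = 64 := by
  have := card_sup_mul_card_inf (le_sup_left.trans h.nB)
  rw [h.c, h.c', h.cZ] at this
  omega

namespace Mn
variable (h : Mn A B)
include h

theorem card_M (hc : c ∈ A ⊓ B) (h1 : c ≠ 1) : Nat.card 𝐍(A) = 15 * Nat.card 𝐂[c] := by
  rw [Exc.card_eq_of_trans le_rfl hc.1 h1 (h.tr c hc h1), h.c, inf_eq_right.2 ((h.cz c hc h1).trans inf_le_left)]

theorem card_B (hc : c ∈ A ⊓ B) (h1 : c ≠ 1) : Nat.card ↥(𝐍(A) ⊓ 𝐍(B)) = 3 * Nat.card 𝐂[c] := by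
  rw [← h.NZ_eq, Exc.card_eq_of_trans le_rfl hc h1 fun v hv h2 =>
    let ⟨k, hk, e⟩ := h.tr c hc h1 v hv.1 h2
    ⟨k, h.toT.ti hk hc h1 (e ▸ hv.2), e⟩, h.cZ, h.NZ_eq, inf_eq_right.2 (h.cz c hc h1)]

theorem psl3 (hO : pPrimeCore 2 G = ⊥) (F : Type) [Field F] [Fintype F] (hF : Fintype.card F = 4) :
    ∃ L : Subgroup G, L.Normal ∧ Nonempty (L ≃* PSL (Fin 3) F) := by
  classical
  obtain ⟨c, hc, c1⟩ := h.exists_z
  have hM := h.card_M hc c1
  have hM1 := h.symm.card_M ⟨hc.2, hc.1⟩ c1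
  have hB := h.card_B hc c1
  have hn : 64 ≤ Nat.card 𝐂[c] := h.cS ▸ card_le_of_le (h.S_le_cent hc)
  generalize Nat.card 𝐂[c] = n at hM hM1 hB hn
  let _ := Fintype.ofFinite (G ⧸ 𝐍(A))
  set ℓ : Finset (G ⧸ 𝐍(A)) := (MulAction.orbit 𝐍(B) ((1 : G) : G ⧸ 𝐍(A))).toFinset with hℓ
  have mem : ∀ g x : G, (x : G ⧸ 𝐍(A)) ∈ g • ℓ ↔ ∃ m ∈ 𝐍(B), x⁻¹ * (g * m) ∈ 𝐍(A) := fun g x => by
    rw [← Finset.inv_smul_mem_iff, hℓ, Set.mem_toFinset, MulAction.mem_orbit_iff]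
    refine ⟨fun ⟨m, e⟩ => ⟨m, m.2, ?_⟩, fun ⟨m, hm, e⟩ => ⟨⟨m, hm⟩, ?_⟩⟩
    · have := QuotientGroup.eq.1 (show (((g⁻¹ * x : G) : G ⧸ 𝐍(A))) = ((m * 1 : G) : G ⧸ 𝐍(A)) from e.symm)
      simpa [mul_assoc] using this
    · exact (QuotientGroup.eq.2 (by simpa [mul_assoc] using e) :
        (((g⁻¹ * x : G) : G ⧸ 𝐍(A))) = ((m * 1 : G) : G ⧸ 𝐍(A))).symm
  have duo : ∀ g x : G, (x : G ⧸ 𝐍(A)) ∈ g • ℓ → T (cj x A) (cj g B) := fun g x hx => by
    obtain ⟨m, hm, e⟩ := (mem g x).1 hx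
    have := h.conj (g * m)
    rwa [cj_mul g m B, cj_of_mem_normalizer hm, ← mul_inv_cancel_left x (g * m), cj_mul, cj_of_mem_normalizer e] at this
  have uniq : ∀ g g' x y : G, (x : G ⧸ 𝐍(A)) ≠ y → (x : G ⧸ 𝐍(A)) ∈ g • ℓ → (y : G ⧸ 𝐍(A)) ∈ g • ℓ →
      (x : G ⧸ 𝐍(A)) ∈ g' • ℓ → (y : G ⧸ 𝐍(A)) ∈ g' • ℓ → g'⁻¹ * g ∈ 𝐍(B) := by
    intro g g' x y hne e1 e2 e3 e4
    have := (duo g x e1).line_eq (duo g y e2) (duo g' x e3) (duo g' y e4) (eq_bot_iff.2 fun w hw => by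
      by_contra h6
      refine hne (QuotientGroup.eq.2 (h.ti (mem_cj.1 hw.2) (fun e => h6 ?_) ?_))
      · simpa [mul_assoc] using congrArg (fun z => y * z * y⁻¹) e
      · convert mem_cj.1 hw.1 using 1; group)
    rw [← cj_eq_self_iff, cj_mul, this, cj_inv_cj]
  have stab : ∀ m ∈ 𝐍(B), m • ℓ = ℓ := fun m hm => by
    ext p
    obtain ⟨x, rfl⟩ := QuotientGroup.mk_surjective p
    rw [mem, ← one_smul G ℓ, mem]
    exact ⟨fun ⟨k, hk, e⟩ => ⟨m * k, mul_mem hm hk, by rwa [one_mul]⟩,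
      fun ⟨k, hk, e⟩ => ⟨m⁻¹ * k, mul_mem (inv_mem hm) hk, by simpa using e⟩⟩
  have hℓ5 : ℓ.card = 5 := by
    have := Golay.card_eq_orbit_mul 𝐍(B) ((1 : G) : G ⧸ 𝐍(A))
    rw [Exc.stabilizer_one, inf_comm, hM1, hB] at this
    have e : 15 * n = (MulAction.orbit 𝐍(B) ((1 : G) : G ⧸ 𝐍(A))).ncard * (3 * n) := this
    rw [← Set.coe_toFinset (MulAction.orbit _ _), Set.ncard_coe_finset] at e
    have e : 15 * n = ℓ.card * (3 * n) := by convert e
    exact Nat.eq_of_mul_eq_mul_right (m := 3 * n) (by omega) (by rw [← e]; ring)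
  have hSt : IsSteinerSystem 2 5 (MulAction.orbit G ℓ) := by
    refine ⟨by rintro _ ⟨g, rfl⟩; simpa using hℓ5, fun s hs => ?_⟩
    obtain ⟨p, q, hpq, rfl⟩ := Finset.card_eq_two.1 hs
    obtain ⟨x, rfl⟩ := QuotientGroup.mk_surjective p
    obtain ⟨y, rfl⟩ := QuotientGroup.mk_surjective q
    obtain ⟨g, e1, e2⟩ := h.collinear (x⁻¹ * y)
    have e3 : (x : G ⧸ 𝐍(A)) ∈ (x * g) • ℓ := (mem _ _).2 (by simpa [mul_assoc] using e1)
    have e4 : (y : G ⧸ 𝐍(A)) ∈ (x * g) • ℓ := (mem _ _).2 (by simpa [mul_assoc] using e2)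
    refine ⟨(x * g) • ℓ, ⟨⟨_, rfl⟩, by simp [Finset.insert_subset_iff, e3, e4]⟩, ?_⟩
    rintro _ ⟨⟨g', rfl⟩, h6⟩
    rw [Finset.insert_subset_iff, Finset.singleton_subset_iff] at h6
    have := stab _ (uniq _ _ _ _ hpq h6.1 h6.2 e3 e4)
    rwa [mul_smul, inv_smul_eq_iff] at this
  have hstab : MulAction.stabilizer G ℓ = 𝐍(B) := by
    refine le_antisymm (fun g hg => ?_) stab
    obtain ⟨p, hp, q, hq, hpq⟩ := Finset.one_lt_card.1 (show 1 < ℓ.card by omega)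
    obtain ⟨x, rfl⟩ := QuotientGroup.mk_surjective p
    obtain ⟨y, rfl⟩ := QuotientGroup.mk_surjective q
    have e : g • ℓ = ℓ := hg
    simpa using uniq g 1 x y hpq (e.symm ▸ hp) (e.symm ▸ hq) (by simpa using hp) (by simpa using hq)
  have h21 : Fintype.card (G ⧸ 𝐍(A)) = 21 := by
    have e1 := Golay.cnt_mul_choose hSt {((1 : G) : G ⧸ 𝐍(A))} (by simp)
    have e2 := Golay.card_eq_orbit_mul 𝐍(A) ℓ
    have e3 : {c | c ∈ MulAction.orbit G ℓ ∧ {((1 : G) : G ⧸ 𝐍(A))} ⊆ c ∧ Disjoint c ∅} = MulAction.orbit 𝐍(A) ℓ := by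
      ext c
      constructor
      · rintro ⟨⟨g, rfl⟩, h6, -⟩
        obtain ⟨m, hm, e⟩ := (mem g 1).1 (Finset.singleton_subset_iff.1 h6)
        exact ⟨⟨g * m, by simpa using e⟩, show (g * m) • ℓ = g • ℓ by rw [mul_smul, stab m hm]⟩
      · rintro ⟨k, rfl⟩
        exact ⟨⟨k, rfl⟩, Finset.singleton_subset_iff.2 ((mem k 1).2 ⟨1, one_mem _, by simp⟩), by simp⟩
    rw [hstab, hM, hB] at e2
    rw [Golay.cnt, e3] at e1
    simp only [Finset.card_singleton, Nat.add_one_sub_one, Nat.choose_one_right] at e1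
    have e4 : (MulAction.orbit 𝐍(A) ℓ).ncard = 5 :=
      Nat.eq_of_mul_eq_mul_right (m := 3 * n) (by omega) (e2.symm.trans (by ring))
    omega
  have hG : 20160 ≤ Nat.card G := by
    rw [← 𝐍(A).card_mul_index, hM, index, Nat.card_eq_fintype_card, h21]; omega
  refine psl3_of_plane hG h21 hSt ((MulAction.toPermHom G (G ⧸ 𝐍(A))).codRestrict _ fun g =>
    Golay.mem_setSystemAut_iff.2 ?_) ?_ F hF
  · rintro _ ⟨k, rfl⟩
    exact ⟨g * k, mul_smul g k ℓ⟩
  · rw [MonoidHom.injective_codRestrict, ← MonoidHom.ker_eq_bot_iff, ← normalCore_eq_ker]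
    refine (h.le_or hO h.tr h.tr' _).resolve_right fun h1 => ?_
    obtain ⟨b, hb, h2⟩ := h.toT.symm.exists_a
    obtain ⟨k, -, rfl⟩ := h.tr' c ⟨hc.2, hc.1⟩ c1 b hb fun e => h2 (e ▸ one_mem _)
    exact h2 ((mem_normalizer_iff.1 (h.wcN ((cj_mono k (le_sup_left.trans h1)).trans
      ((cj_of_mem_normalizer (le_normalizer_of_normal (mem_top k))).le.trans (normalCore_le _)))) c).1 hc.1)

theorem embed (hO : pPrimeCore 2 G = ⊥) {F : Type*} [Field F] [Fintype F] (hF : Fintype.card F = 4) :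
    ∃ f : G →* GL (Fin 3) F ⧸ center (GL (Fin 3) F), Function.Injective f := by
  let _ := Fintype.ofFinite (GaloisField 2 2)
  have h4 : Nat.card (GaloisField 2 2) = 4 := GaloisField.card 2 2 (by norm_num)
  obtain ⟨L, hL, ⟨e⟩⟩ := h.psl3 hO (GaloisField 2 2) (Nat.card_eq_fintype_card.symm.trans h4)
  obtain ⟨e'⟩ := Linear.nonempty_psl_equiv_of_card_eq (ι := Fin 3) (h4.trans (Nat.card_eq_fintype_card.trans hF).symm)
  replace e := e.trans e'
  have := Linear.psl_fin_isSimpleGroup (F := F) (n := 3) (by norm_num) (by norm_num)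
  have := e.isSimpleGroup
  have hS := (h.le_or hO h.tr h.tr' L).resolve_left ((nontrivial_iff_ne_bot _).1 inferInstance)
  obtain ⟨a, ha, h1⟩ := h.exists_a
  obtain ⟨b, hb, h2⟩ := h.toT.symm.exists_a
  have hC := (h.le_or hO h.tr h.tr' 𝐂(L)).resolve_right fun h3 =>
    (h.ne a ha b hb (h3 (mem_sup_right hb) a (hS (mem_sup_left ha)))).elim h1 h2
  let φ : G →* MulAut (PSL (Fin 3) F) := (MulAut.congr e).toMonoidHom.comp MulAut.conjNormal
  have hφ : Function.Injective φ := (injective_iff_map_eq_one φ).2 fun g hg => hC.le fun x hx =>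
    (mul_inv_eq_iff_eq_mul.1 (congrArg (fun f : MulAut L => (f ⟨x, hx⟩ : G)) ((MulAut.congr e).map_eq_one_iff.1 hg))).symm
  obtain ⟨Φ, -, hΦ⟩ := Linear.exists_autFieldGraph (F := F) (n := 3) le_rfl
  have h3 : L ≤ (Linear.pslConj (Fin 3) F).range.comap φ := fun x hx => Linear.Inn_le_range_pslConj
    ⟨e ⟨x, hx⟩, MulEquiv.ext fun y => by
      obtain ⟨y, rfl⟩ := e.surjective y
      rw [MulAut.conj_apply, ← map_inv, ← map_mul, ← map_mul]
      exact congrArg e (Subtype.ext (by simp))⟩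
  have h5 : ∀ g, φ g ∈ (Linear.pslConj (Fin 3) F).range := fun g =>
    mem_of_pow (M := (Linear.pslConj (Fin 3) F).range.comap φ) (k := 1) h.syl (fun y _ =>
      ((cj_mono y hS).trans (cj_of_mem_normalizer (le_normalizer_of_normal (mem_top y))).le).trans h3) (mem_top g) (by
      obtain ⟨w, w0, w1, w2, -, hx⟩ := field4 hF
      rw [mem_comap, ← hΦ, MonoidHom.mem_ker, map_pow, map_pow, pow_one]
      generalize Φ (φ g) = s
      refine Prod.ext (RingEquiv.ext fun x => ?_) ((by decide : ∀ k : Multiplicative (ZMod 2), k ^ 2 = 1) s.2)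
      have e0 : s.1 w ≠ 0 := (map_ne_zero _).2 w0
      have e1 : s.1 w ≠ 1 := fun e => w1 (s.1.injective (e.trans (map_one _).symm))
      have e2 : s.1 (s.1 w) = w := by
        rcases hx (s.1 w) with e | e | e | e
        exacts [absurd e e0, absurd e e1, by rw [e, e], by rw [e, map_add, map_one, e, add_assoc, w2, add_zero]]
      change s.1 (s.1 x) = x
      rcases hx x with rfl | rfl | rfl | rfl <;> simp [e2])
  let ψ := (QuotientGroup.quotientKerEquivRange _).symm.trans (QuotientGroup.quotientMulEquivOfEq (Linear.ker_pslConj (ι := Fin 3) (F := F)))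
  exact ⟨ψ.toMonoidHom.comp (φ.codRestrict _ h5), ψ.injective.comp ((MonoidHom.injective_codRestrict _ _ h5).2 hφ)⟩

end Mn

theorem T.embed (h : T A B) (hO : pPrimeCore 2 G = ⊥) {F : Type*} [Field F] [Fintype F] (hF : Fintype.card F = 4) :
    ∃ f : G →* GL (Fin 3) F ⧸ center (GL (Fin 3) F), Function.Injective f := by
  by_cases hA : 𝐍(A) ≤ 𝐍(A ⊓ B)
  · have := h.symm.normal hO (inf_comm A B ▸ hA)
    exact h.symm.embed_normal hO hF
  by_cases hB : 𝐍(B) ≤ 𝐍(B ⊓ A)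
  · have := h.normal hO (inf_comm B A ▸ hB)
    exact h.embed_normal hO hF
  exact (h.mn hO hA hB).embed hO hF

theorem sylow_ut {F : Type*} [Field F] [Finite F] [CharP F 2] (P : Sylow 2 (PSL (Fin 3) F)) :
    Nonempty (Linear.slUnitri 3 F ≃* (P : Subgroup (PSL (Fin 3) F))) := by
  let k := QuotientGroup.mk' (center (SL (Fin 3) F))
  have hk : Function.Injective (k.comp (Linear.slUnitri 3 F).subtype) := (injective_iff_map_eq_one _).2 fun x hx => by
    obtain ⟨r, -, hr'⟩ := Matrix.SpecialLinearGroup.mem_center_iff.1 ((QuotientGroup.eq_one_iff _).1 hx)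
    have h0 := (Linear.mem_slUnitri.1 x.2).2 0
    have h0' := congrFun (congrFun hr' 0) 0
    have : r = 1 := by simpa using h0'.trans h0
    rw [this, map_one] at hr'
    exact Subtype.ext (Subtype.ext hr'.symm)
  let S := ((Linear.isPGroup_slUnitri (p := 2) (F := F) 3).toSylow (Linear.not_dvd_index_slUnitri 3)).mapSurjective
    (QuotientGroup.mk'_surjective (center (SL (Fin 3) F)))
  have hS : (k.comp (Linear.slUnitri 3 F).subtype).range = S := by rw [MonoidHom.range_comp, range_subtype]; rfl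
  exact ⟨((MonoidHom.ofInjective hk).trans (MulEquiv.subgroupCongr hS)).trans (Sylow.equiv S P)⟩

theorem exists_T {F : Type*} [Field F] [Fintype F] (hF : Fintype.card F = 4) (hS : Syl 2 S ⊤) (e : Linear.slUnitri 3 F ≃* S) :
    ∃ A B : Subgroup G, T A B ∧ A ⊔ B = S := by
  obtain ⟨w, -, -, h2, -⟩ := field4 hF
  have h2' : ∀ x : F, x + x = 0 := fun x => by rw [← one_mul x, ← add_mul, h2, zero_mul]
  obtain ⟨u, hu⟩ : ∃ u : F → F → F → G, ∀ a b c, u a b c = e ⟨Fus.ut3 a b c, Fus.ut3_mem a b c⟩ := ⟨_, fun _ _ _ => rfl⟩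
  have hm : ∀ a b c a' b' c', u a b c * u a' b' c' = u (a + a') (b + b') (c + c' + a * b') := fun a b c a' b' c' => by
    rw [hu, hu, hu, ← coe_mul, ← map_mul]; exact congrArg (fun x => (e x : G)) (Subtype.ext (Fus.ut3_mul ..))
  have hi : ∀ {a b c a' b' c'}, u a b c = u a' b' c' → a = a' ∧ b = b' ∧ c = c' := fun h => by
    rw [hu, hu] at h; exact Fus.ut3_inj.1 (congrArg Subtype.val (e.injective (Subtype.ext h)))
  have hu' : ∀ a b c, u a b c ∈ S := fun a b c => (hu a b c).symm ▸ (e _).2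
  have h0 : u 0 0 0 = 1 := mul_left_cancel (a := u 0 0 0) (by simp [hm])
  let f : Multiplicative (F × F) →* G := MonoidHom.mk' (fun x => u x.toAdd.1 0 x.toAdd.2) fun x y => by simp [hm]
  let g : Multiplicative (F × F) →* G := MonoidHom.mk' (fun x => u 0 x.toAdd.1 x.toAdd.2) fun x y => by simp [hm]
  let k : Multiplicative F →* G := MonoidHom.mk' (fun x => u 0 0 x.toAdd) fun x y => by simp [hm]
  have hf : ∀ a c, u a 0 c ∈ f.range := fun a c => ⟨.ofAdd (a, c), rfl⟩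
  have hg : ∀ a c, u 0 a c ∈ g.range := fun a c => ⟨.ofAdd (a, c), rfl⟩
  have hZ : f.range ⊓ g.range = k.range := le_antisymm (by
    rintro _ ⟨⟨x, rfl⟩, y, e⟩
    exact ⟨.ofAdd x.toAdd.2, congrArg (u · 0 _) (hi e).1⟩) (by rintro _ ⟨x, rfl⟩; exact ⟨hf _ _, hg _ _⟩)
  have hT : f.range ⊔ g.range = S := le_antisymm (sup_le (by rintro _ ⟨x, rfl⟩; exact hu' ..)
    (by rintro _ ⟨x, rfl⟩; exact hu' ..)) fun s hs => by
      obtain ⟨⟨x, hx⟩, e1⟩ := e.surjective ⟨s, hs⟩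
      obtain ⟨a, b, c, rfl⟩ := Fus.mem_slUnitri_three.1 hx
      have : u a 0 0 * u 0 b (c + a * b) = s := by
        rw [hm, ← show _ = s from congrArg Subtype.val e1, ← hu, add_zero, zero_add, zero_add, add_assoc, h2', add_zero]
      exact this ▸ mul_mem (mem_sup_left (hf _ _)) (mem_sup_right (hg _ _))
  have hc : ∀ {H : Type _} [Group H] (f : H →* G), Function.Injective f → Nat.card f.range = Nat.card H := fun f hf =>
    (Nat.card_congr (MonoidHom.ofInjective hf).toEquiv).symm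
  have h4 : Nat.card F = 4 := Nat.card_eq_fintype_card.trans hF
  refine ⟨f.range, g.range, ⟨?_, ?_, ?_, ?_, ?_, ?_, ?_, hT ▸ hS⟩, hT⟩
  · rintro _ ⟨x, rfl⟩; exact (hm ..).trans (by simpa [h2'] using h0)
  · rintro _ ⟨x, rfl⟩; exact (hm ..).trans (by simpa [h2'] using h0)
  · rw [hc f fun x y e => Prod.ext (hi e).1 (hi e).2.2]; simp [hF]
  · rw [hc g fun x y e => Prod.ext (hi e).2.1 (hi e).2.2]; simp [hF]
  · rw [hZ, hc k fun x y e => (hi e).2.2]; simp [hF]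
  · rintro _ ⟨x, rfl⟩ _ ⟨y, rfl⟩
    change u _ _ _ * u _ _ _ * (u _ _ _ * u _ _ _) ∈ _
    rw [hm, hm, h2', h2']
    exact ⟨hf _ _, hg _ _⟩
  · rintro _ ⟨x, rfl⟩ _ ⟨y, rfl⟩ e
    have e1 : x.toAdd.1 * y.toAdd.1 = 0 := by
      have := (hi (((hm ..).symm.trans e).trans (hm ..))).2.2
      linear_combination this
    refine (mul_eq_zero.1 e1).imp (fun e => ?_) fun e => ?_
    · change u _ _ _ ∈ _; rw [e]; exact hg _ _
    · change u _ _ _ ∈ _; rw [e]; exact hf _ _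

theorem exists_T' {F : Type*} [Field F] [Fintype F] (hF : Fintype.card F = 4) (S : Sylow 2 G) (P : Sylow 2 (PSL (Fin 3) F))
    (hS : Nonempty (↥(S : Subgroup G) ≃* ↥(P : Subgroup (PSL (Fin 3) F)))) : ∃ A B : Subgroup G, T A B ∧ A ⊔ B = S := by
  obtain ⟨w, -, -, h2, -⟩ := field4 hF
  have : CharP F 2 := CharTwo.of_one_ne_zero_of_two_eq_zero one_ne_zero (one_add_one_eq_two (R := F) ▸ h2)
  exact exists_T hF (syl_top S) ((sylow_ut P).some.trans hS.some.symm)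

end Cfsg.Lib.L34
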