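import Cfsg.Agent.Lib.Exc.Plane4

/-! A large group acting on a projective plane of order 4 has a normal subgroup `PSL₃(4)`. -/

set_option autoImplicit false
set_option maxRecDepth 100000

namespace Cfsg.Lib.L34

open Cfsg Cfsg.Lib.Golay
open scoped Pointwise

theorem psl3_of_plane {G : Type*} [Group G] [Finite G] (hG : 20160 ≤ Nat.card G)
    {α : Type*} [Fintype α] [DecidableEq α] (hα : Fintype.card α = 21) {B : Set (Finset α)}
    (hB : IsSteinerSystem 2 5 B) (φ : G →* setSystemAut B) (hφ : Function.Injective φ)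
    (F : Type) [Field F] [Fintype F] (hF : Fintype.card F = 4) :
    ∃ L : Subgroup G, L.Normal ∧ Nonempty (L ≃* Matrix.ProjectiveSpecialLinearGroup (Fin 3) F) := by
  obtain ⟨f, h⟩ := model21 hα hB
  have hn : ∀ p, p ∈ om 0x800003 ↔ p = some 1 ∨ p = some 0 ∨ p = none := by
    have : gc.pt 1 = some 1 := by decide
    simp [F3_eq, F2_eq, F1_eq, this]
  have hn2 : ∀ p, p ∈ om 0x800001 → p ∈ om 0x800003 := fun p hp => F3_eq ▸ Finset.mem_insert_of_mem hp
  obtain ⟨e, -⟩ := h.aut_equiv (K := M24 ⊓ MulAction.stabilizer _ (om 0x800003)) (fun m hm => ⟨hm.2, by simp⟩)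
    (fun g hg => hg.2) (fun g _ => by simp) (fun g hg m hm =>
      ⟨(smul_mem_octads_iff hg.1).mpr hm.1, hg.2 ▸ (smul_subset_smul' _ _ _).mpr hm.2⟩)
    (fun g hg h1 => by
      obtain ⟨σ, hσ, e⟩ := exists_M24_three (a := some 1) (b := some 0) (c := none) (a' := gc.pt 7) (b' := gc.pt 8)
        (c' := gc.pt 9) (by decide) (by decide)
      have := eq_one_of_fix_base (σ := σ * g * σ⁻¹) (mul_mem (mul_mem hσ hg.1) (inv_mem hσ)) fun i hi => by
        obtain ⟨p, hp⟩ := exists_eq_smul σ (gc.pt i)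
        rw [hp, conj_apply_smul, h1 p]
        simp only [Finset.mem_sdiff, Finset.mem_univ, true_and, hn]
        rintro (rfl | rfl | rfl)
        · exact (by decide : ∀ i < 7, gc.pt i ≠ gc.pt 7) i hi (hp.trans e.1)
        · exact (by decide : ∀ i < 7, gc.pt i ≠ gc.pt 8) i hi (hp.trans e.2.1)
        · exact (by decide : ∀ i < 7, gc.pt i ≠ gc.pt 9) i hi (hp.trans e.2.2)
      simpa [mul_assoc] using congrArg (fun z => σ⁻¹ * z * σ) this)
    (fun σ hσ h1 => by
      have hfix : ∀ p ∈ om 0x800003, σ p = p := fun p hp => mem_symOn.1 hσ p (Or.inl hp)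
      obtain ⟨y, hy, h2⟩ := aut_step (F := om 0x800001) (x := gc.pt 1) (F3_eq ▸ hfix)
        (fun o ho => (h1 o (F3_eq ▸ ho)).1) dual3
      rw [← F3_eq] at hy
      obtain ⟨y', hy', h3⟩ := Exc.aut2' h2
      have hx : gc.pt 1 ∈ om 0x800003 := F3_eq ▸ Finset.mem_insert_self _ _
      have hsw : ∀ {a b : GolayPt}, a ∈ om 0x800003 → b ∈ om 0x800003 → ∀ p,
          Equiv.swap a b p ∈ om 0x800003 ↔ p ∈ om 0x800003 := fun {a b} ha hb p => by
        rw [Equiv.swap_apply_def]
        split_ifs with e1 e2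
        exacts [iff_of_true hb (e1 ▸ ha), iff_of_true ha (e2 ▸ hb), Iff.rfl]
      have hσ' : ∀ p, σ p ∈ om 0x800003 ↔ p ∈ om 0x800003 := fun p =>
        ⟨fun hp => by rwa [← σ.injective (hfix _ hp)], fun hp => by rwa [hfix p hp]⟩
      have hτ : ∀ p, (Equiv.swap (gc.pt 1) y * σ) p ∈ om 0x800003 ↔ p ∈ om 0x800003 := fun p => by
        rw [Equiv.Perm.mul_apply, hsw hx hy, hσ']
      have ha := (hτ _).2 ((hn (some 0)).2 (by simp))
      have hb := (hτ _).2 (hn2 _ hy')
      refine ⟨_, ⟨h3, Finset.eq_of_subset_of_card_le (fun p hp => ?_) (by simp)⟩, fun p hp => ?_⟩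
      · obtain ⟨q, hq, rfl⟩ := Finset.mem_smul_finset.1 hp
        exact (hsw ha hb _).2 ((hτ q).2 hq)
      · have h4 : p ∉ om 0x800003 := (Finset.mem_sdiff.1 hp).2
        have h5 : (Equiv.swap (gc.pt 1) y * σ) p = σ p := Equiv.swap_apply_of_ne_of_ne
          (fun e => h4 ((hσ' p).1 (e ▸ hx))) fun e => h4 ((hσ' p).1 (e ▸ hy))
        rw [Equiv.Perm.mul_apply, h5]
        exact Equiv.swap_apply_of_ne_of_ne (fun e => h4 ((hσ' p).1 (e ▸ ha))) fun e => h4 ((hσ' p).1 (e ▸ hb)))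
  let ψ := e.symm.toMonoidHom.comp φ
  have hψ : Function.Injective ψ := e.symm.injective.comp hφ
  obtain ⟨ρ, hρ⟩ := exists_restrict_hom (H := M24 ⊓ MulAction.stabilizer _ (om 0x800003)) (E := om 0x800003)
    fun g hg x hx => stab_inv_finset hg.2 hx
  obtain ⟨e'⟩ := Cfsg.Agent.S0380.result none (some 0) (some 1) (by decide) (by decide) (by decide) F hF
  replace e' : M21 ≃* Matrix.ProjectiveSpecialLinearGroup (Fin 3) F :=
    MulEquiv.trans ((conjTo_M22 (one_mem M24)).inf_stab (some 1 : GolayPt)).equiv.symm e'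
  have := Linear.psl_fin_isSimpleGroup (F := F) (n := 3) (by norm_num) (by norm_num)
  have := e'.isSimpleGroup
  have hm : ∀ g : (ρ.comp ψ).ker, ∀ p ∈ om 0x800003, (ψ g : Equiv.Perm GolayPt) p = p := fun g p hp => by
    have h1 : ρ (ψ g) = 1 := g.2
    have := hρ (ψ g) ⟨p, hp⟩
    rw [h1] at this
    exact this.symm
  let χ : (ρ.comp ψ).ker →* M21 := (((Subgroup.subtype _).comp ψ).comp (Subgroup.subtype _)).codRestrict M21 fun g =>
    mem_M21.2 ⟨(ψ g).2.1, hm g _ (by simp [hn]), hm g _ (by simp [hn]), hm g _ (by simp [hn])⟩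
  have hχ : Function.Injective χ := fun a b e =>
    Subtype.ext (hψ (Subtype.ext (congrArg (fun x : M21 => (x : Equiv.Perm GolayPt)) e)))
  have h1 := (ρ.comp ψ).ker.card_mul_index
  have h2 := χ.range.card_mul_index
  have h3 : (ρ.comp ψ).ker.index ≤ 6 := by
    have := Subgroup.card_le_card_group (ρ.comp ψ).range
    rwa [← Subgroup.index_ker, Nat.card_perm, Nat.card_eq_fintype_card, Fintype.card_coe,
      show (om 0x800003).card = 3 by rw [F3_eq, F2_eq, F1_eq]; decide] at this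
  rw [← Nat.card_congr (χ.ofInjective hχ).toEquiv, card_M21] at h2
  replace h3 : χ.range.index ≤ 6 := Nat.le_of_mul_le_mul_left
    (h2.trans_le (hG.trans (h1.symm.trans_le (Nat.mul_le_mul_left _ h3)))) Nat.card_pos
  have h4 : χ.range = ⊤ := by
    refine top_le_iff.1 (((Subgroup.normalCore_normal χ.range).eq_bot_or_eq_top.resolve_left fun e => ?_).ge.trans
      (Subgroup.normalCore_le _))
    have := (Exc.card_dvd_of_core e).trans (Nat.factorial_dvd_factorial h3)
    rw [card_M21] at this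
    exact absurd this (by decide)
  exact ⟨_, inferInstance, ⟨(MulEquiv.ofBijective χ ⟨hχ, MonoidHom.range_eq_top.1 h4⟩).trans e'⟩⟩

end Cfsg.Lib.L34
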