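import Cfsg.Agent.Lib.Amalg.Bridge
import Cfsg.Agent.Lib.BG1.Sec1
import Cfsg.Agent.Lib.Invol.Basic

/-! Groups whose Sylow 2-subgroups are those of `PSL₃(4)`: local structure. -/

set_option autoImplicit false
set_option linter.unusedSectionVars false

namespace Cfsg.Lib.L34
open Subgroup Cfsg.Lib.Core Cfsg.Lib.BG1 Cfsg.Lib.Invol
open Cfsg.Lib.Amalg hiding le_cent_symm op_top

universe u

variable {G : Type u} [Group G] [Finite G] {A B B' S V X Y U H M N : Subgroup G} {a a' b c g n s v w x y z : G}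

instance f2 : Fact (Nat.Prime 2) := ⟨Nat.prime_two⟩

theorem four (h4 : Nat.card V = 4) (hz : z ∈ V) (hv : v ∈ V) (z1 : z ≠ 1) (v1 : v ≠ 1) (zv : z ≠ v) (z2 : z * z = 1)
    (hx : x ∈ V) : x = 1 ∨ x = z ∨ x = v ∨ x = z * v := by
  classical
  by_contra hc
  push Not at hc
  obtain ⟨h1, h2, h3, h5⟩ := hc
  have e1 : z * v ≠ 1 := fun e => zv (mul_left_cancel (z2.trans e.symm))
  have e2 : z * v ≠ z := by simpa using v1
  have e3 : z * v ≠ v := by simpa using z1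
  have hs : (({x, z * v, v, z, 1} : Finset G) : Set G) ⊆ V := by
    simp [Set.insert_subset_iff, hx, hz, hv, mul_mem hz hv]
  have := Set.ncard_le_ncard hs
  rw [Set.ncard_coe_finset, ← Nat.card_coe_set_eq, SetLike.coe_sort_coe, h4, Finset.card_insert_of_notMem (by simp [*]),
    Finset.card_insert_of_notMem (by simp [*]), Finset.card_insert_of_notMem (by simp [v1, zv.symm]),
    Finset.card_pair z1] at this
  omega

theorem mem_of_pow (hS : Syl 2 S N) (hM : ∀ y ∈ N, cj y S ≤ M) (hn : n ∈ N) {k : ℕ} (h : n ^ 2 ^ k ∈ M) : n ∈ M := by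
  obtain ⟨j, m, hm, e⟩ := Nat.exists_eq_two_pow_mul_odd (orderOf_pos n).ne'
  obtain ⟨y, hy, h1⟩ := hS.exists_le_conj (P := zpowers (n ^ m))
    (isPGroup_zpowers_of_pow (k := j) (by rw [← pow_mul, mul_comm, ← e, pow_orderOf_eq_one])) (zpowers_le.2 (pow_mem hn m))
  have h2 := hM y hy (h1 (mem_zpowers _))
  have h3 : ((2 ^ k : ℕ) : ℤ) * Nat.gcdA (2 ^ k) m + m * Nat.gcdB (2 ^ k) m = 1 := by
    rw [← Nat.gcd_eq_gcd_ab, (Nat.Coprime.pow_left k ((Nat.coprime_two_left).2 hm)).gcd_eq_one]; rfl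
  rw [← zpow_one n, ← h3, zpow_add, zpow_mul, zpow_mul, zpow_natCast, zpow_natCast]
  exact mul_mem (zpow_mem h _) (zpow_mem h2 _)

/-- elements acting trivially on `X / Y` -/
def St (X Y : Subgroup G) : Subgroup G where
  carrier := {g | g ∈ 𝐍(Y) ∧ ∀ x ∈ X, x⁻¹ * (g * x * g⁻¹) ∈ Y}
  one_mem' := ⟨one_mem _, fun x _ => by simp⟩
  mul_mem' := fun {g k} hg hk => ⟨mul_mem hg.1 hk.1, fun x hx => by
    have := mul_mem (hg.2 x hx) ((mem_normalizer_iff.1 hg.1 _).1 (hk.2 x hx))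
    convert this using 1; group⟩
  inv_mem' := fun {g} hg => ⟨inv_mem hg.1, fun x hx => by
    have := (mem_normalizer_iff.1 (inv_mem hg.1) _).1 (inv_mem (hg.2 x hx))
    convert this using 1; group⟩

theorem St.mk (hY : Y ≤ X) (h : ∀ x ∈ X, x⁻¹ * (g * x * g⁻¹) ∈ Y) : g ∈ St X Y :=
  ⟨mem_normalizer_of_cj_le (cj_le_iff'.2 fun y hy => by simpa using mul_mem hy (h y (hY hy))), h⟩

theorem St.norm (hY : Y ≤ X) (h : g ∈ St X Y) : g ∈ 𝐍(X) := (St.mk le_rfl fun x hx => hY (h.2 x hx)).1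

theorem St.sq (hY : ∀ y ∈ Y, y * y = 1) (h1 : g ∈ St X Y) (h2 : g ∈ St Y U) : g * g ∈ St X U :=
  ⟨mul_mem h2.1 h2.1, fun x hx => by
    have := h2.2 _ (h1.2 x hx)
    rw [inv_eq_of_mul_eq_one_right (hY _ (h1.2 x hx))] at this
    convert this using 1; group⟩

theorem St.cent (h : g ∈ St X ⊥) : g ∈ 𝐂(X) := fun x hx => by
  have := h.2 x hx
  rw [mem_bot, inv_mul_eq_one, eq_mul_inv_iff_mul_eq] at this
  exact this

theorem St.of_cent (h : g ∈ 𝐂(X)) (hn : g ∈ 𝐍(Y)) : g ∈ St X Y := ⟨hn, fun x hx => by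
  rw [← h x hx]; simp⟩

theorem St.of_cent' (h : g ∈ 𝐂(X)) : g ∈ St X ⊥ := St.of_cent h (le_normalizer_of_normal (mem_top g))

theorem St.le_norm (h1 : n ∈ 𝐍(X)) (h2 : n ∈ 𝐍(Y)) (hg : g ∈ St X Y) : n * g * n⁻¹ ∈ St X Y :=
  ⟨mul_mem (mul_mem h2 hg.1) (inv_mem h2), fun x hx => by
    have := (mem_normalizer_iff.1 h2 _).1 (hg.2 _ ((mem_normalizer_iff.1 (inv_mem h1) _).1 hx))
    convert this using 1; group⟩

/-- the two elementary abelian subgroups of order `16` of a Sylow 2-subgroup of type `PSL₃(4)` -/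
structure T (A B : Subgroup G) : Prop where
  sq : ∀ a ∈ A, a * a = 1
  sq' : ∀ b ∈ B, b * b = 1
  c : Nat.card A = 16
  c' : Nat.card B = 16
  cZ : Nat.card ↥(A ⊓ B) = 4
  cm : ∀ a ∈ A, ∀ b ∈ B, a * b * (a * b) ∈ A ⊓ B
  ne : ∀ a ∈ A, ∀ b ∈ B, a * b = b * a → a ∈ B ∨ b ∈ A
  syl : Syl 2 (A ⊔ B) ⊤

theorem comm_of_sq (h : ∀ a ∈ A, a * a = 1) (ha : a ∈ A) (hb : b ∈ A) : a * b = b * a := by
  have := h _ (mul_mem ha hb)
  calc a * b = a * (a * b * (a * b)) * b * (a * a) * (b * b) := by rw [this, h a ha, h b hb]; simp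
    _ = (a * a) * b * a * (b * b) * (a * a) * (b * b) := by simp only [mul_assoc]
    _ = b * a := by rw [h a ha, h b hb]; simp

namespace T
variable (h : T A B)
include h

theorem inv (ha : a ∈ A) : a⁻¹ = a := inv_eq_of_mul_eq_one_right (h.sq a ha)
theorem comm (ha : a ∈ A) (hb : a' ∈ A) : a * a' = a' * a := comm_of_sq h.sq ha hb
theorem le_cent : A ≤ 𝐂(A) := fun _ ha _ hb => h.comm hb ha

theorem symm : T B A where
  sq := h.sq'
  sq' := h.sq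
  c := h.c'
  c' := h.c
  cZ := inf_comm A B ▸ h.cZ
  cm b hb a ha := by
    have := inv_mem (h.cm a ha b hb)
    rwa [mul_inv_rev, mul_inv_rev, h.inv ha, inv_eq_of_mul_eq_one_right (h.sq' b hb), inf_comm] at this
  ne b hb a ha e := (h.ne a ha b hb e.symm).symm
  syl := sup_comm A B ▸ h.syl

theorem cm' (ha : a ∈ A) (hb : b ∈ B) : a⁻¹ * (b * a * b⁻¹) ∈ A ⊓ B := by
  rw [h.inv ha, h.symm.inv hb]
  simpa [mul_assoc] using h.cm a ha b hb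

theorem S_St : A ⊔ B ≤ St A (A ⊓ B) :=
  sup_le (fun _ ha => St.of_cent (h.le_cent ha) (centralizer_le_normalizer _ fun _ hz => h.comm hz.1 ha))
    fun _ hb => St.mk inf_le_left fun _ ha => h.cm' ha hb

theorem nA : A ⊔ B ≤ 𝐍(A) := fun _ hs => St.norm inf_le_left (h.S_St hs)
theorem nB : A ⊔ B ≤ 𝐍(B) := sup_comm B A ▸ h.symm.nA
theorem cZ' : A ⊔ B ≤ 𝐂(A ⊓ B) :=
  sup_le (fun _ ha _ hz => h.comm hz.1 ha) fun _ hb _ hz => h.symm.comm hz.2 hb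

theorem mem_S : s ∈ A ⊔ B ↔ ∃ a ∈ A, ∃ b ∈ B, a * b = s := mem_sup_of_le_normalizer' (le_sup_right.trans h.nA)

theorem pS : IsPGroup 2 ↥(A ⊔ B) := h.syl.isPGroup
theorem pA : IsPGroup 2 A := h.pS.to_le le_sup_left

theorem inv_S (hs : s ∈ A ⊔ B) (h2 : s * s = 1) : s ∈ A ∨ s ∈ B := by
  obtain ⟨a, ha, b, hb, rfl⟩ := h.mem_S.1 hs
  have : a * b = b * a := by
    rw [← inv_eq_of_mul_eq_one_right h2, mul_inv_rev, h.inv ha, h.symm.inv hb]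
  rcases h.ne a ha b hb this with e | e
  exacts [Or.inr (mul_mem e hb), Or.inl (mul_mem ha e)]

theorem ne_AB : A ≠ B := fun e => by
  have := h.cZ
  rw [← e, inf_idem, h.c] at this
  omega

theorem eq_or (hV : V ≤ A ⊔ B) (h2 : ∀ v ∈ V, v * v = 1) (hc : Nat.card V = 16) : V = A ∨ V = B := by
  by_cases h1 : V ≤ A
  · exact Or.inl (eq_of_le_of_card_ge h1 (by rw [hc, h.c]))
  refine Or.inr (eq_of_le_of_card_ge (fun x hx => ?_) (by rw [hc, h.c']))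
  obtain ⟨v, hv, h3⟩ := SetLike.not_le_iff_exists.1 h1
  have h4 := (h.inv_S (hV hv) (h2 v hv)).resolve_left h3
  rcases h.inv_S (hV hx) (h2 x hx) with e | e
  · rcases h.inv_S (hV (mul_mem hx hv)) (h2 _ (mul_mem hx hv)) with e' | e'
    exacts [(h3 ((mul_mem_cancel_left e).1 e')).elim, (mul_mem_cancel_right h4).1 e']
  · exact e

theorem map {K : Type*} [Group K] [Finite K] {f : G →* K} (hf : Function.Surjective f) (hi : ∀ s ∈ A ⊔ B, f s = 1 → s = 1) :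
    T (A.map f) (B.map f) := by
  have inj : ∀ s ∈ A ⊔ B, ∀ t ∈ A ⊔ B, f s = f t → s = t := fun s hs t ht e =>
    mul_inv_eq_one.1 (hi _ (mul_mem hs (inv_mem ht)) (by rw [map_mul, map_inv, e, mul_inv_cancel]))
  have card : ∀ X ≤ A ⊔ B, Nat.card (X.map f) = Nat.card X := fun X hX =>
    Nat.card_image_of_injOn fun s hs t ht => inj s (hX hs) t (hX ht)
  have hinf : A.map f ⊓ B.map f = (A ⊓ B).map f := le_antisymm (by
    rintro _ ⟨⟨a, ha, rfl⟩, b, hb, e⟩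
    exact ⟨a, ⟨ha, inj _ (mem_sup_right hb) _ (mem_sup_left ha) e ▸ hb⟩, rfl⟩) (map_inf_le _ _ _)
  refine ⟨?_, ?_, by rw [card _ le_sup_left, h.c], by rw [card _ le_sup_right, h.c'],
    by rw [hinf, card _ (inf_le_left.trans le_sup_left), h.cZ], ?_, ?_, Subgroup.map_sup A B f ▸ h.syl.map_top hf⟩
  · rintro _ ⟨a, ha, rfl⟩; rw [← map_mul, h.sq a ha, map_one]
  · rintro _ ⟨a, ha, rfl⟩; rw [← map_mul, h.sq' a ha, map_one]
  · rintro _ ⟨a, ha, rfl⟩ _ ⟨b, hb, rfl⟩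
    rw [hinf, ← map_mul, ← map_mul]
    exact mem_map_of_mem f (h.cm a ha b hb)
  · rintro _ ⟨a, ha, rfl⟩ _ ⟨b, hb, rfl⟩ e
    rw [← map_mul, ← map_mul] at e
    exact (h.ne a ha b hb (inj _ (mul_mem (mem_sup_left ha) (mem_sup_right hb)) _
      (mul_mem (mem_sup_right hb) (mem_sup_left ha)) e)).imp (mem_map_of_mem f) (mem_map_of_mem f)

theorem conj (g : G) : T (cj g A) (cj g B) :=
  h.map (f := (MulAut.conj g).toMonoidHom) (MulAut.conj g).surjective fun _ _ e => (MulAut.conj g).map_eq_one_iff.1 e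

theorem cj_or (hg : cj g A ≤ A ⊔ B) : cj g A = A ∨ cj g A = B := h.eq_or hg (h.conj g).sq (h.conj g).c

theorem nS_le : 𝐍(A ⊔ B) ≤ 𝐍(A) := fun n hn => by
  have h1 := cj_le_of_le_of_mem_normalizer (le_sup_left : A ≤ A ⊔ B) hn
  refine mem_of_pow (h.syl.of_le le_normalizer le_top) (fun y hy => (cj_of_mem_normalizer hy).trans_le h.nA) hn (k := 1) ?_
  rw [pow_one, pow_two, ← cj_eq_self_iff, cj_mul]
  rcases h.cj_or h1 with e | e
  · rw [e, e]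
  rw [e]
  refine (h.symm.cj_or (sup_comm A B ▸ cj_le_of_le_of_mem_normalizer le_sup_right hn)).resolve_left fun e' => ?_
  exact h.ne_AB (cj_inj.1 (e.trans e'.symm))

theorem nS_le' : 𝐍(A ⊔ B) ≤ 𝐍(B) := sup_comm B A ▸ h.symm.nS_le

theorem cj_ne (g : G) : cj g A ≠ B := fun e => by
  obtain ⟨n, hn, h1⟩ := (((h.conj g).syl.of_le (e ▸ (h.conj g).nA) le_top).exists_conj (h.syl.of_le h.nB le_top))
  rw [← cj_sup, ← cj_mul] at h1
  have := cj_eq_self_iff.2 (h.nS_le (cj_eq_self_iff.1 h1))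
  rw [cj_mul, e, cj_of_mem_normalizer hn] at this
  exact h.ne_AB this.symm

theorem wc (hg : cj g A ≤ A ⊔ B) : g ∈ 𝐍(A) := cj_eq_self_iff.1 ((h.cj_or hg).resolve_right (h.cj_ne g))

theorem wc' (hP : IsPGroup 2 X) (h1 : A ≤ X) (h2 : cj g A ≤ X) : g ∈ 𝐍(A) := by
  obtain ⟨y, -, h3⟩ := h.syl.exists_conj_le hP le_top
  have h4 := h.wc ((cj_mono y h1).trans h3)
  have h5 := h.wc (g := y * g) (by rw [cj_mul]; exact (cj_mono y h2).trans h3)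
  exact (mul_mem_cancel_left h4).1 h5

theorem wcN (hg : cj g A ≤ 𝐍(A)) : g ∈ 𝐍(A) :=
  h.wc' (IsPGroup.to_sup_of_normal_left' h.pA (h.conj g).pA hg) le_sup_left le_sup_right

theorem fuse {D : Set G} (h1 : D ⊆ A) (h2 : ∀ x ∈ D, g * x * g⁻¹ ∈ A) : ∃ n ∈ 𝐍(A), ∀ x ∈ D, n * x * n⁻¹ = g * x * g⁻¹ := by
  let C := centralizer ((fun x => g * x * g⁻¹) '' D)
  obtain ⟨R, h3, h4⟩ := exists_syl_ge (H := C) h.pA (by rintro a ha _ ⟨x, hx, rfl⟩; exact h.comm (h2 x hx) ha)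
  obtain ⟨c, hc, h5⟩ := h3.exists_conj_le (h.conj g).pA (by
    rintro a ha _ ⟨x, hx, rfl⟩; exact (h.conj g).comm (conj_mem_cj g (h1 hx)) ha)
  refine ⟨c * g, h.wc' h3.isPGroup h4 (by rwa [cj_mul]), fun x hx => ?_⟩
  have := hc _ ⟨x, hx, rfl⟩
  rw [show c * g * x * (c * g)⁻¹ = c * (g * x * g⁻¹) * c⁻¹ by group, ← this, mul_inv_cancel_right]

theorem cent_A (ha : a ∈ A) (h1 : a ∉ B) (hb : b ∈ B) (e : a * b = b * a) : b ∈ A := (h.ne a ha b hb e).resolve_left h1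

theorem surj (ha : a ∈ A) (h1 : a ∉ B) (hc : c ∈ A ⊓ B) : ∃ b ∈ B, a⁻¹ * (b * a * b⁻¹) = c := by
  let f : B →* ↥(A ⊓ B) := MonoidHom.mk' (fun b => ⟨_, h.cm' ha b.2⟩) fun b b' => Subtype.ext (by
    have := h.symm.comm b.2 (h.cm' ha b'.2).2
    simp only [coe_mul]
    calc a⁻¹ * (b * b' * a * (b * b' : G)⁻¹) = a⁻¹ * (b * a * (b : G)⁻¹) * (b * (a⁻¹ * (b' * a * (b' : G)⁻¹)) * (b : G)⁻¹) := by group
      _ = _ := by rw [this]; group)
  have h2 : f.ker = (A ⊓ B).subgroupOf B := by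
    ext b
    rw [MonoidHom.mem_ker, mem_subgroupOf, Subtype.ext_iff]
    refine ⟨fun e => ⟨h.cent_A ha h1 b.2 ?_, b.2⟩, fun e => ?_⟩
    · exact eq_mul_inv_iff_mul_eq.1 (inv_mul_eq_one.1 e)
    · exact inv_mul_eq_one.2 (eq_mul_inv_iff_mul_eq.2 (h.comm ha e.1))
  have h3 := f.ker.card_mul_index
  rw [index_ker, h2, Nat.card_congr (subgroupOfEquivOfLe inf_le_right).toEquiv, h.cZ, h.c'] at h3
  have h4 : f.range = ⊤ := eq_top_of_card_eq _ (by rw [h.cZ]; omega)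
  obtain ⟨b, e⟩ := h4.ge (mem_top ⟨c, hc⟩)
  exact ⟨b, b.2, congrArg Subtype.val e⟩

theorem unip (h1 : A ⊔ B ≤ H) (h2 : H ≤ 𝐍(A)) (h3 : ∀ f ∈ H, ∃ k, f ^ 2 ^ k ∈ 𝐂(A)) : H ≤ 𝐂(A) ⊔ B := by
  obtain ⟨k, hk⟩ := relIndex_eq_pow_of_pow_mem (p := 2) (H := H) (K := H ⊓ 𝐂(A))
    (le_normalizer_inf le_normalizer (h2.trans (normalizer_le_normalizer_centralizer _))) fun f hf =>
      (h3 f hf).imp fun k hk => ⟨pow_mem hf _, hk⟩
  rw [← (h.syl.of_le h1 le_top).sup_eq_of_relIndex_pow inf_le_left hk]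
  exact sup_le (inf_le_right.trans le_sup_left) (sup_le (h.le_cent.trans le_sup_left) le_sup_right)

theorem CB_le : 𝐂(A) ⊔ B ≤ 𝐂(A ⊓ B) := sup_le (centralizer_le inf_le_left) (le_sup_right.trans h.cZ')

theorem sqZ (z : G) (hz : z ∈ A ⊓ B) : z * z = 1 := h.sq z hz.1

theorem ti' (h' : T A B') (hz : z ∈ A ⊓ B) (hz' : z ∈ B') (z1 : z ≠ 1) : A ⊓ B = A ⊓ B' := by
  refine eq_of_le_of_card_ge (fun v hv => ⟨hv.1, by_contra fun h1 => ?_⟩) (by rw [h.cZ, h'.cZ])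
  obtain ⟨b, hb, e⟩ := h'.surj hv.1 h1 ⟨hz.1, hz'⟩
  have hW : A ⊓ B ⊔ A ⊓ B' ≤ A := sup_le inf_le_left inf_le_left
  have hzZ : zpowers z ≤ A ⊓ B := zpowers_le.2 hz
  have bz : ∀ x ∈ A ⊓ B', b * x * b⁻¹ = x := fun x hx => by rw [h'.symm.comm hb hx.2, mul_inv_cancel_right]
  have h2 : ∀ x ∈ A ⊓ B, x⁻¹ * (b * x * b⁻¹) ∈ zpowers z := fun x hx => by
    rcases four h.cZ hz hv z1 (fun e => h1 (e ▸ one_mem _)) (fun e => h1 (e ▸ hz')) (h.sqZ z hz) hx with rfl | rfl | rfl | rfl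
    · simp
    · simp [bz x ⟨hz.1, hz'⟩]
    · exact e ▸ mem_zpowers _
    · rw [show b * (z * v) * b⁻¹ = b * z * b⁻¹ * (b * v * b⁻¹) by group, bz z ⟨hz.1, hz'⟩, mul_inv_rev, mul_assoc,
        inv_mul_cancel_left, e]
      exact mem_zpowers _
  have h3 := h.unip (H := St A (A ⊓ B ⊔ A ⊓ B') ⊓ St (A ⊓ B ⊔ A ⊓ B') (A ⊓ B) ⊓ (St (A ⊓ B) (zpowers z) ⊓ St (zpowers z) ⊥))
    (fun s hs => ⟨⟨St.mk hW fun x hx => mem_sup_left ((h.S_St hs).2 x hx),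
      St.mk le_sup_left fun x hx => (h.S_St hs).2 x (hW hx)⟩,
      St.of_cent (h.cZ' hs) (centralizer_le_normalizer _ (centralizer_le hzZ (h.cZ' hs))),
      St.of_cent' (centralizer_le hzZ (h.cZ' hs))⟩)
    (fun f hf => St.norm hW hf.1.1) fun f hf => ⟨2, by
      have := St.cent (St.sq h.sqZ (St.sq (fun y hy => h.sq y (hW hy)) hf.1.1 hf.1.2)
        (St.sq (fun y hy => h.sqZ y (hzZ hy)) hf.2.1 hf.2.2))
      rwa [← pow_two, ← pow_two, ← pow_mul] at this⟩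
  have h4 := h.CB_le (h3 (x := b) ⟨⟨St.mk hW fun x hx => mem_sup_right (h'.cm' hx hb), St.mk le_sup_left fun x hx => ?_⟩,
    St.mk hzZ h2, St.of_cent' (centralizer_le (zpowers_le.2 (show z ∈ A ⊓ B' from ⟨hz.1, hz'⟩)) (h'.cZ' (mem_sup_right hb)))⟩)
  · exact z1 (by rw [← e, ← h4 v hv]; simp)
  · obtain ⟨p, hp, q, hq, rfl⟩ := (mem_sup_of_le_normalizer (H := A ⊓ B) (K := A ⊓ B') fun _ hy =>
      centralizer_le_normalizer _ fun _ hx => h.comm hx.1 hy.1).1 hx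
    rw [show b * (p * q) * b⁻¹ = b * p * b⁻¹ * (b * q * b⁻¹) by group, bz q hq, h.comm hp.1 hq.1, mul_inv_rev,
      h.comm ((mem_normalizer_iff.1 (h'.nA (mem_sup_right hb)) p).1 hp.1) hq.1, mul_assoc, inv_mul_cancel_left]
    exact hzZ (h2 p hp)

theorem conjN (hn : n ∈ 𝐍(A)) : T A (cj n B) := by
  have := h.conj n
  rwa [cj_of_mem_normalizer hn] at this

theorem cj_Z (hn : n ∈ 𝐍(A)) : cj n (A ⊓ B) = A ⊓ cj n B := by rw [cj_inf, cj_of_mem_normalizer hn]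

theorem ti (hn : n ∈ 𝐍(A)) (hz : z ∈ A ⊓ B) (z1 : z ≠ 1) (h1 : n * z * n⁻¹ ∈ B) : n ∈ 𝐍(A ⊓ B) := by
  rw [← cj_eq_self_iff, h.cj_Z hn]
  exact (h.conjN hn).ti' h ⟨(mem_normalizer_iff.1 hn z).1 hz.1, conj_mem_cj n hz.2⟩ h1 (by simpa using z1)

theorem exists_ne (hz : z ∈ A ⊓ B) (z1 : z ≠ 1) : ∃ v ∈ A ⊓ B, v ≠ 1 ∧ z ≠ v := by
  obtain ⟨v, h1, h2⟩ := SetLike.not_le_iff_exists.1 fun e : A ⊓ B ≤ zpowers z => by
    have := card_le_of_le e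
    rw [h.cZ, Nat.card_zpowers, two_of_mul_self (h.sqZ z hz) z1] at this
    omega
  exact ⟨v, h1, fun e => h2 (e ▸ one_mem _), fun e => h2 (e ▸ mem_zpowers _)⟩

theorem exists_z : ∃ z ∈ A ⊓ B, z ≠ 1 := (bot_or_exists_ne_one _).resolve_left fun e => by
  have := h.cZ
  rw [e, card_bot] at this
  omega

theorem exists_a : ∃ a ∈ A, a ∉ B := SetLike.not_le_iff_exists.1 fun e => by
  have := h.cZ
  rw [inf_eq_left.2 e, h.c] at this
  omega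

theorem S_le : A ⊔ B ≤ 𝐍(A) ⊓ 𝐍(A ⊓ B) := le_inf h.nA (h.cZ'.trans (centralizer_le_normalizer _))

theorem alpha (hn : n ∈ 𝐍(A)) (hz : z ∈ A ⊓ B) (z1 : z ≠ 1) (e : n * z * n⁻¹ = z) : n ∈ 𝐂(A ⊓ B) := by
  have h1 := h.ti hn hz z1 (e.symm ▸ hz.2)
  refine mem_of_pow (h.syl.of_le h.S_le le_top) (fun y hy => ?_) ⟨hn, h1⟩ (k := 1) ?_
  · exact cj_le_of_le_of_mem_normalizer h.cZ' (normalizer_le_normalizer_centralizer _ hy.2)
  obtain ⟨v, hv, v1, zv⟩ := h.exists_ne hz z1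
  have h2 : n * v * n⁻¹ = v ∨ n * v * n⁻¹ = z * v := by
    rcases four h.cZ hz hv z1 v1 zv (h.sqZ z hz) ((mem_normalizer_iff.1 h1 v).1 hv) with e' | e' | e'
    · exact absurd (by simpa using e') v1
    · exact absurd (by simpa using e'.trans e.symm) zv.symm
    · exact e'
  have h3 : n * n * z * (n * n)⁻¹ = z := by rw [show n * n * z * (n * n)⁻¹ = n * (n * z * n⁻¹) * n⁻¹ by group, e, e]
  have h4 : n * n * v * (n * n)⁻¹ = v := by
    rw [show n * n * v * (n * n)⁻¹ = n * (n * v * n⁻¹) * n⁻¹ by group]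
    rcases h2 with e' | e'
    · rw [e', e']
    · rw [e', show n * (z * v) * n⁻¹ = n * z * n⁻¹ * (n * v * n⁻¹) by group, e, e', ← mul_assoc, h.sqZ z hz, one_mul]
  rw [pow_one, pow_two]
  intro x hx
  rcases four h.cZ hz hv z1 v1 zv (h.sqZ z hz) hx with rfl | rfl | rfl | rfl
  · simp
  · exact (mul_inv_eq_iff_eq_mul.1 h3).symm
  · exact (mul_inv_eq_iff_eq_mul.1 h4).symm
  · rw [mul_assoc, ← mul_inv_eq_iff_eq_mul.1 h4, ← mul_assoc, ← mul_inv_eq_iff_eq_mul.1 h3, mul_assoc]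

/-- the stabilizer of the chain `A > Z > 1` -/
theorem chain : St A (A ⊓ B) ⊓ 𝐂(A ⊓ B) = 𝐂(A) ⊔ B := by
  refine le_antisymm (h.unip (le_inf h.S_St h.cZ') (fun _ hf => St.norm inf_le_left hf.1) fun f hf =>
    ⟨1, by rw [pow_one, pow_two]; exact St.cent (St.sq h.sqZ hf.1 (St.of_cent' hf.2))⟩) (le_inf (sup_le (fun x hx => ?_)
      (le_sup_right.trans h.S_St)) h.CB_le)
  exact St.of_cent hx (centralizer_le_normalizer _ (centralizer_le inf_le_left hx))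

theorem n_chain (h1 : n ∈ 𝐍(A)) (h2 : n ∈ 𝐍(A ⊓ B)) : n ∈ 𝐍(𝐂(A) ⊔ B) := by
  rw [← h.chain]
  exact mem_normalizer_of_cj_le (cj_le_iff'.2 fun x hx =>
    ⟨St.le_norm h1 h2 hx.1, (mem_normalizer_iff.1 (normalizer_le_normalizer_centralizer _ h2) x).1 hx.2⟩)

theorem mem_CB (hx : x ∈ 𝐂(A) ⊔ B) : ∃ b ∈ B, ∀ a ∈ A, x * a * x⁻¹ = b * a * b⁻¹ := by
  obtain ⟨c, hc, b, hb, rfl⟩ := (mem_sup_of_le_normalizer'
    ((le_sup_right.trans h.nA).trans (normalizer_le_normalizer_centralizer _))).1 hx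
  refine ⟨b, hb, fun a ha => ?_⟩
  rw [show c * b * a * (c * b)⁻¹ = c * (b * a * b⁻¹) * c⁻¹ by group,
    ← hc _ ((mem_normalizer_iff.1 (h.nA (mem_sup_right hb)) a).1 ha), mul_inv_cancel_right]

theorem sc (hN : 𝐍(B) ≤ 𝐍(A ⊓ B)) : IsStronglyClosed A (A ⊔ B) := by
  refine ⟨le_sup_left, fun a ha g hg => (h.inv_S hg ((h.conj g).sq _ (conj_mem_cj g ha))).elim id fun hb => ?_⟩
  obtain ⟨R, h3, h4⟩ := exists_syl_ge (H := 𝐂[g * a * g⁻¹]) h.symm.pA fun b h1 => mem_centralizer_singleton_iff.2 (h.symm.comm h1 hb)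
  obtain ⟨c, hc, h5⟩ := h3.exists_conj_le (h.conj g).pA fun b h1 =>
    mem_centralizer_singleton_iff.2 ((h.conj g).comm h1 (conj_mem_cj g ha))
  obtain ⟨y, -, h6⟩ := h.syl.exists_conj_le h3.isPGroup le_top
  have h7 := h.symm.wc (sup_comm A B ▸ (cj_mono y h4).trans h6)
  have h8 := h.wc (g := y * c * g) (by rw [cj_mul, cj_mul]; exact (cj_mono y h5).trans h6)
  have h9 : y * (g * a * g⁻¹) * y⁻¹ ∈ A ⊓ B := ⟨by
    have := (mem_normalizer_iff.1 h8 a).1 ha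
    rwa [show y * c * g * a * (y * c * g)⁻¹ = y * (c * (g * a * g⁻¹) * c⁻¹) * y⁻¹ by group,
      mem_centralizer_singleton_iff.1 hc, mul_inv_cancel_right] at this, (mem_normalizer_iff.1 h7 _).1 hb⟩
  exact ((mem_normalizer_iff.1 (hN h7) _).2 h9).1

end T

end Cfsg.Lib.L34
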