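import Cfsg.Agent.Lib.L34.T1
import Cfsg.Agent.Lib.SF.GStr2
import Cfsg.Agent.Lib.JTW.Cen1

/-! Sylow 2-subgroups of type `PSL₃(4)`: the strongly closed case. -/

set_option autoImplicit false
set_option linter.unusedSectionVars false

namespace Cfsg.Lib.L34
open Subgroup Cfsg.Lib.Core Cfsg.Lib.BG1 Cfsg.Lib.Invol Cfsg.Lib.Layer
open Cfsg.Lib.Amalg hiding le_cent_symm op_top
open scoped commutatorElement

universe u

variable {G : Type u} [Group G] [Finite G] {A B B' K L P H R : Subgroup G} {a b c g n s v w x y z : G}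

theorem burnside (hP : Syl 2 P H) (hc : H ⊓ 𝐍(P) ≤ 𝐂(P)) : Group.IsSolvable H := by
  have h1 := FT.solvable_of_not_two_dvd _ ((Nat.Prime.coprime_iff_not_dvd Nat.prime_two).1 (hP.coprime_res hc).symm)
  have h2 := solvable_of_pgroup Nat.prime_two hP.isPGroup
  rw [← hP.res_sup, sup_comm]
  exact isSolvable_sup_of_le_normalizer (hP.le.trans (le_norm_res H))

theorem ab_normal [K.Normal] (hO : pPrimeCore 2 G = ⊥) (hP : Syl 2 P K) (hc : P ≤ 𝐂(P))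
    (hf : ∀ n ∈ K ⊓ 𝐍(P), n ∉ 𝐂(P) → ∀ x ∈ P, n * x * n⁻¹ = x → x = 1)
    (hx : x ∈ P) (hy : y ∈ P) (x2 : orderOf x = 2) (y2 : orderOf y = 2) (ho : ∀ n ∈ K ⊓ 𝐍(P), n * x * n⁻¹ ≠ y) : P.Normal := by
  by_cases hE : ∃ L, IsComponent L ∧ L ≤ K
  swap
  · have h1 : pCore 2 G ⊓ K ≤ P := hP.le_of_normal ((isPGroup_pCore 2 G).to_le inf_le_left) inf_le_right le_normalizer_of_normal
    have h2 : K ⊓ 𝐂(pCore 2 G ⊓ K) ≤ fittingSubgroup G := le_fit_of_no_component (Normal.isSubnormal inferInstance)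
      (fun L hL h => hE ⟨L, hL, h.trans inf_le_left⟩) (comm_eq_bot_iff.2 (inf_le_right.trans (centralizer_le
        (fit_eq_pCore hO ▸ inf_le_inf_left _ inf_le_left))))
    rw [le_antisymm (le_inf ((le_inf hP.le (hc.trans (centralizer_le h1))).trans (h2.trans (fit_eq_pCore hO).le)) hP.le) h1]
    infer_instance
  obtain ⟨L, hL, hLK⟩ := hE
  have ns := JTW.Cen.comp_ns hL
  have hR : Syl 2 (P ⊓ L) L := by simpa [inf_eq_right.2 hLK] using hP.inf_subnormal hL.1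
  have h2 : P ≤ 𝐍(L) := fun s hs => by
    refine cj_eq_self_iff.1 (by_contra fun e => ns (JTW.Cen.solvable_of_syl hR (le_norm_of_le_cent
      (BG1.le_cent_symm fun x hx => ?_))))
    refine comm_eq_bot_iff.1 (IsComponent.commutator_eq_bot_of_ne (IsComponent.cj hL s) hL e) ?_
    have := conj_mem_cj s hx.2
    rwa [hc hx.1 s hs, mul_inv_cancel_right] at this
  have h3 : P ≤ L := by
    obtain ⟨n, hn, h4⟩ := SetLike.not_le_iff_exists.1 fun e =>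
      ns (solvable_of_le le_sup_left (burnside (hP.of_le le_sup_right (sup_le hLK hP.le)) e))
    obtain ⟨r, hr, p, hp, rfl⟩ := (mem_sup_of_le_normalizer' h2).1 hn.1
    have h5 : r ∈ 𝐍(P) := (mul_mem_cancel_right (le_normalizer hp)).1 hn.2
    have h6 := hf r ⟨hLK hr, h5⟩ fun e => h4 (mul_mem e (hc hp))
    let f : P → P := fun x => ⟨x⁻¹ * (r * x * r⁻¹), mul_mem (inv_mem x.2) ((mem_normalizer_iff.1 h5 _).1 x.2)⟩
    have h7 : Function.Injective f := fun x y e => by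
      have e1 : (x : G)⁻¹ * (r * x * r⁻¹) = (y : G)⁻¹ * (r * y * r⁻¹) := congrArg Subtype.val e
      refine Subtype.ext (mul_inv_eq_one.1 (h6 _ (mul_mem x.2 (inv_mem y.2)) ?_))
      calc r * (x * (y : G)⁻¹) * r⁻¹ = x * ((x : G)⁻¹ * (r * x * r⁻¹)) * (r * y * r⁻¹)⁻¹ := by group
        _ = _ := by rw [e1]; group
    intro p hp
    obtain ⟨x, e⟩ := Finite.injective_iff_surjective.1 h7 ⟨p, hp⟩
    rw [← show (x : G)⁻¹ * (r * x * r⁻¹) = p from congrArg Subtype.val e, ← mul_assoc, ← mul_assoc]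
    exact mul_mem (by simpa using (mem_normalizer_iff.1 (h2 (inv_mem x.2)) r).1 hr) (inv_mem hr)
  have hS := hP.of_le h3 hLK
  have hZ : center L = ⊥ := by
    by_cases h4 : 2 ∣ Nat.card (center L)
    · obtain ⟨t, ht⟩ := exists_prime_orderOf_dvd_card' 2 h4
      have c : ∀ l ∈ L, l * ((t : L) : G) * l⁻¹ = (t : L) := fun l hl => by
        rw [mul_inv_eq_iff_eq_mul]; exact congrArg Subtype.val (mem_center_iff.1 t.2 ⟨l, hl⟩)
      have t2 : orderOf ((t : L) : G) = 2 := by rw [orderOf_coe, orderOf_coe, ht]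
      have h5 : ((t : L) : G) ∈ P := hS.le_of_normal (Amalg.isPGroup_zpowers_of_orderOf (k := 1) t2) (zpowers_le.2 (t : L).2)
        (fun l hl => cj_eq_self_iff.1 (by rw [cj_zpowers, c l hl])) (mem_zpowers _)
      exact absurd (burnside hS fun n hn => by_contra fun e => ne_one_of_two t2 (hf n ⟨hLK hn.1, hn.2⟩ e _ h5 (c n hn.1))) ns
    · refine le_bot_iff.1 ((le_pPrimeCore ((Nat.Prime.coprime_iff_not_dvd Nat.prime_two).2 h4).symm).trans ?_)
      exact ((map_eq_bot_iff_of_injective _ L.subtype_injective).1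
        (le_bot_iff.1 ((pPrimeCoreOf_le_pPrimeCore_of_isSubnormal hL.1).trans hO.le))).le
  have := IsQuasisimple.isSimpleGroup hL.2 hZ
  have hcm : IsMulCommutative P := PGrp.isMulCommutative_iff_forall.2 fun x hx y hy => hc hy x hx
  obtain ⟨g, e⟩ := isConj_iff.1 ((Wal.gd_of_comm (IsQuasisimple.not_isMulCommutative hL.2) hS.subgroupOf_top
    (PGrp.isMulCommutative_iff_forall.2 fun x hx y hy => Subtype.ext (hc hy x hx))).one ⟨x, h3 hx⟩ ⟨y, h3 hy⟩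
    (by rw [← x2, ← orderOf_coe]) (by rw [← y2, ← orderOf_coe]))
  have e : (g : G) * x * (g : G)⁻¹ = y := congrArg Subtype.val e
  obtain ⟨n, hn, e'⟩ := Gold.exists_norm_conj hS hcm hx g.2 (e ▸ hy)
  exact absurd (e'.trans e) (ho n ⟨hLK hn.1, hn.2⟩)

namespace T
variable (h : T A B)
include h

theorem cent_S (hs : s ∈ A ⊔ B) (h1 : s ∉ A) (ha : a ∈ A) : s * a * s⁻¹ = a ↔ a ∈ B := by
  refine ⟨fun e => ?_, fun hb => by rw [← h.cZ' hs a ⟨ha, hb⟩, mul_inv_cancel_right]⟩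
  obtain ⟨a', ha', b, hb, rfl⟩ := h.mem_S.1 hs
  refine (h.ne a ha b hb ?_).resolve_right fun e => h1 (mul_mem ha' e)
  rw [mul_inv_eq_iff_eq_mul, ← mul_assoc, h.comm ha ha', mul_assoc, mul_assoc] at e
  exact (mul_left_cancel e).symm

theorem inv_Z (h' : T A B') (hb : b ∈ B) (h1 : b ∉ A) (hn : ∀ w ∈ A ⊓ B', b * w * b⁻¹ ∈ B') : A ⊓ B = A ⊓ B' := by
  obtain ⟨w, hw, w1⟩ := h'.exists_z
  by_cases e : w⁻¹ * (b * w * b⁻¹) = 1
  · exact h.ti' h' ⟨hw.1, (h.cent_S (mem_sup_right hb) h1 hw.1).1 (inv_mul_eq_one.1 e).symm⟩ hw.2 w1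
  · exact h.ti' h' (h.cm' hw.1 hb) (mul_mem (inv_mem hw.2) (hn w hw)) e

theorem exists_b2 (hb : b ∈ B) (h1 : b ∉ A) : ∃ c ∈ B, c ∉ A ∧ b * c ∉ A := by
  obtain ⟨a, ha, h2⟩ := h.exists_a
  obtain ⟨v, hv, v1, e⟩ := h.exists_ne (h.cm' ha hb) fun e => h2 ((h.cent_S (mem_sup_right hb) h1 ha).1 (inv_mul_eq_one.1 e).symm)
  obtain ⟨c, hc, rfl⟩ := h.surj ha h2 hv
  refine ⟨c, hc, fun h3 => v1 (by rw [h.comm h3 ha]; simp), fun h3 => e ?_⟩
  have e1 : b = c * (b * c) := by rw [h.symm.comm hb hc, ← mul_assoc, h.sq' c hc, one_mul]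
  rw [e1, show c * (b * c) * a * (c * (b * c))⁻¹ = c * (b * c * a * (b * c)⁻¹) * c⁻¹ by group, h.comm h3 ha, mul_inv_cancel_right]

section
variable [K.Normal] (hK : Syl 2 A K)
include hK

theorem K_nZ (hn : n ∈ K ⊓ 𝐍(A)) : n ∈ 𝐍(A ⊓ B) := by
  obtain ⟨b, hb, h1⟩ := h.symm.exists_a
  obtain ⟨c, hc, h2, h3⟩ := h.exists_b2 hb h1
  have h' := h.conjN hn.2
  have hc' := conj_mem_cj n hc
  have b2 := h.sq' b hb
  have c2 := h'.sq' _ hc'
  have hu : b * (n * c * n⁻¹) ∈ 𝐍(A) := mul_mem (h.nA (mem_sup_right hb)) (h'.nA (mem_sup_right hc'))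
  obtain ⟨j, m, hm, e⟩ := Nat.exists_eq_two_pow_mul_odd (orderOf_pos (b * (n * c * n⁻¹))).ne'
  obtain ⟨y, hy, h4⟩ := (h.syl.of_le h.nA le_top).exists_le_conj (P := zpowers ((b * (n * c * n⁻¹)) ^ m))
    (isPGroup_zpowers_of_pow (k := j) (by rw [← pow_mul, mul_comm m, ← e, pow_orderOf_eq_one])) (zpowers_le.2 (pow_mem hu m))
  replace h4 := h4 (mem_zpowers _)
  rw [cj_sup, cj_of_mem_normalizer hy] at h4
  have h5 : (b * (n * c * n⁻¹)) ^ m ∉ A := fun e => h3 (by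
    have e1 := (QuotientGroup.eq_one_iff _).2 (hK.le e)
    obtain ⟨m, rfl⟩ := hm
    have e2 : ((b * c : G) : G ⧸ K) ^ 2 = 1 := by
      rw [← QuotientGroup.mk_pow, pow_two, h.sq' _ (mul_mem hb hc), QuotientGroup.mk_one]
    rw [QuotientGroup.mk_pow, QuotientGroup.mk_mul, QuotientGroup.mk_mul, QuotientGroup.mk_mul, QuotientGroup.mk_inv,
      (QuotientGroup.eq_one_iff n).2 hn.1, one_mul, inv_one, mul_one, ← QuotientGroup.mk_mul, pow_succ, pow_mul, e2, one_pow,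
      one_mul, QuotientGroup.eq_one_iff] at e1
    exact (hK.eq_of_le _ (le_inf le_sup_left hK.le) inf_le_right (h.pS.to_le inf_le_left)).le
      ⟨mem_sup_right (mul_mem hb hc), e1⟩)
  have h'' := h.conjN hy
  have key : ∀ t ∈ 𝐍(A), t * (b * (n * c * n⁻¹)) * t⁻¹ = (b * (n * c * n⁻¹))⁻¹ → ∀ w ∈ A ⊓ cj y B, t * w * t⁻¹ ∈ cj y B :=
    fun t ht e w hw => by
      have e1 := conj_pow_of_inv e m
      have e2 := (h''.cent_S h4 h5 hw.1).2 hw.2
      refine (h''.cent_S (inv_mem h4) (mt inv_mem_iff.1 h5) ((mem_normalizer_iff.1 ht w).1 hw.1)).1 ?_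
      rw [← e1]
      generalize (b * (n * c * n⁻¹)) ^ m = u at e2
      conv_rhs => rw [← e2]
      group
  rw [← cj_eq_self_iff, h.cj_Z hn.2, h.inv_Z h'' hb h1 (key b (h.nA (mem_sup_right hb)) (left_inverts b2 c2))]
  exact h'.inv_Z h'' hc' (fun e => h2 ((mem_normalizer_iff.1 hn.2 c).2 e))
    (key _ (h'.nA (mem_sup_right hc')) (right_inverts b2 c2))

theorem K_cent (hn : n ∈ K ⊓ 𝐍(A)) (h1 : n ∈ 𝐂(A) ⊔ B) : n ∈ 𝐂(A) := by
  refine mem_of_pow (hK.of_le (le_inf hK.le le_normalizer) inf_le_left)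
    (fun y hy => (cj_of_mem_normalizer hy.2).trans_le h.le_cent) hn (k := 1) fun a ha => ?_
  obtain ⟨b, hb, e⟩ := h.mem_CB h1
  rw [pow_one, pow_two, eq_comm, ← mul_inv_eq_iff_eq_mul, show n * n * a * (n * n)⁻¹ = n * (n * a * n⁻¹) * n⁻¹ by group,
    e a ha, e _ ((mem_normalizer_iff.1 (h.nA (mem_sup_right hb)) a).1 ha),
    show b * (b * a * b⁻¹) * b⁻¹ = b * b * a * (b * b)⁻¹ by group, h.sq' b hb]
  simp

theorem K_fpf (hn : n ∈ K ⊓ 𝐍(A)) (hx : x ∈ A) (e : n * x * n⁻¹ = x) (x1 : x ≠ 1) : n ∈ 𝐂(A) := by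
  have key : ∀ b ∈ B, ∀ a ∈ A, n * (a⁻¹ * (b * a * b⁻¹)) * n⁻¹ = (n * a * n⁻¹)⁻¹ * (b * (n * a * n⁻¹) * b⁻¹) := fun b hb a ha => by
    have h1 := h.nA (mem_sup_right hb)
    have h0 := mem_inf.1 hn
    have := h.K_cent hK (n := b⁻¹ * (n * b * n⁻¹)) (mem_inf.2 ⟨by
        rw [← mul_assoc, ← mul_assoc]; exact mul_mem (Normal.conj_mem' inferInstance n h0.1 b) (inv_mem h0.1),
      mul_mem (inv_mem h1) (mul_mem (mul_mem h0.2 h1) (inv_mem h0.2))⟩) (mul_mem (mem_sup_right (inv_mem hb))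
        ((mem_normalizer_iff.1 (h.n_chain hn.2 (h.K_nZ hK hn)) b).1 (mem_sup_right hb))) _ ((mem_normalizer_iff.1 hn.2 a).1 ha)
    calc n * (a⁻¹ * (b * a * b⁻¹)) * n⁻¹
        = (n * a * n⁻¹)⁻¹ * (b * (b⁻¹ * (n * b * n⁻¹) * (n * a * n⁻¹)) * (n * b * n⁻¹)⁻¹) := by group
      _ = _ := by rw [← this]; group
  have h2 : n ∈ 𝐂(A ⊓ B) := by
    by_cases hB : x ∈ B
    · exact h.alpha hn.2 ⟨hx, hB⟩ x1 e
    · intro c hc
      obtain ⟨b, hb, rfl⟩ := h.surj hx hB hc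
      rw [eq_comm, ← mul_inv_eq_iff_eq_mul, key b hb x hx, e]
  refine h.K_cent hK hn (h.chain.le ⟨St.mk inf_le_left fun a ha => ?_, h2⟩)
  obtain ⟨b, hb, h1⟩ := h.symm.exists_a
  have h3 := key b hb a ha
  have h4 := (mem_normalizer_iff.1 hn.2 a).1 ha
  rw [← h2 _ (h.cm' ha hb), mul_inv_cancel_right] at h3
  have h5 := mul_mem (inv_mem ha) h4
  refine ⟨h5, (h.cent_S (mem_sup_right hb) h1 h5).1 ?_⟩
  generalize n * a * n⁻¹ = a' at h3 h4
  have h6 := (mem_normalizer_iff.1 (h.nA (mem_sup_right hb)) a).1 ha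
  calc b * (a⁻¹ * a') * b⁻¹ = (b * a * b⁻¹)⁻¹ * a' * (a'⁻¹ * (b * a' * b⁻¹)) := by group
    _ = (a' * a⁻¹) * (b * a * b⁻¹)⁻¹ * (b * a * b⁻¹) := by
      rw [← h3, ← h.comm (inv_mem h6) (mul_mem h4 (inv_mem ha))]; group
    _ = _ := by rw [h.comm h4 (inv_mem ha)]; group

end

theorem normal (hO : pPrimeCore 2 G = ⊥) (hN : 𝐍(B) ≤ 𝐍(A ⊓ B)) : A.Normal := by
  have hA : A ≤ normalClosure (A : Set G) := le_normalClosure
  obtain ⟨-, -, ⟨R, h1, h2⟩, -⟩ := SCl.gstr' h.syl (PGrp.isMulCommutative_iff_forall.2 fun x hx y hy => h.comm hx hy) (h.sc hN) rfl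
    (MonoidHom.id _) Function.surjective_id (by
      rw [MonoidHom.ker_id, eq_comm, ← map_eq_bot_iff_of_injective _ (subtype_injective _)]
      exact le_bot_iff.1 ((pPrimeCoreOf_le_pPrimeCore_of_isSubnormal (Normal.isSubnormal inferInstance)).trans hO.le))
  rw [Subgroup.map_id] at h1 h2
  have h3 := syl_of_sylow R
  have h4 : A ≤ (R : Subgroup _).map (normalClosure (A : Set G)).subtype := fun a ha => ⟨⟨a, hA ha⟩, h1 ha, rfl⟩
  obtain ⟨y, -, h5⟩ := h.syl.exists_conj_le h3.isPGroup le_top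
  have h6 := h.wc ((cj_mono y h4).trans h5)
  have hK := le_antisymm h4 fun t ht => by
    obtain ⟨a, ha, b, hb, e⟩ := h.mem_S.1 (h5 (conj_mem_cj y ht))
    have h7 : y⁻¹ * a * y ∈ A := (mem_normalizer_iff''.1 h6 a).1 ha
    obtain ⟨r, hr, e'⟩ := mul_mem (inv_mem (h4 h7)) ht
    have e1 : (r : G) = y⁻¹ * b * y := by
      rw [show b = a⁻¹ * (a * b) by simp, e]; exact e'.trans (by group)
    have h8 : (r : G) ∈ A := h2.ge (mem_sup_right (subset_closure ⟨hr, Subtype.ext (by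
      rw [coe_pow, e1, pow_two, show y⁻¹ * b * y * (y⁻¹ * b * y) = y⁻¹ * (b * b) * y by group, h.sq' b hb]; simp)⟩))
    exact (mul_mem_cancel_left (inv_mem h7)).1 (e' ▸ h8)
  replace hK : Syl 2 A (normalClosure (A : Set G)) := by convert h3 using 1
  obtain ⟨z, hz, z1⟩ := h.exists_z
  obtain ⟨a, ha, h7⟩ := h.exists_a
  exact ab_normal hO hK h.le_cent (fun n hn h1 x hx e => by_contra fun x1 => h1 (h.K_fpf hK hn hx e x1)) hz.1 ha
    (two_of_mul_self (h.sqZ z hz) z1) (two_of_mul_self (h.sq a ha) fun e => h7 (e ▸ one_mem _)) fun n hn e =>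
      h7 (e ▸ ((mem_normalizer_iff.1 (h.K_nZ hK hn) z).1 hz).2)

end T

end Cfsg.Lib.L34
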