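import Cfsg.Agent.Lib.L34.T1
import Cfsg.Agent.Lib.Linear.OutPSL

/-! Affine groups over the field with four elements embed in `PGL₃(4)`. -/

set_option autoImplicit false
set_option linter.unusedSectionVars false

namespace Cfsg.Lib.L34
open Subgroup Module

variable {F : Type*} [Field F] [Fintype F]

theorem field4 (hF : Fintype.card F = 4) :
    ∃ w : F, w ≠ 0 ∧ w ≠ 1 ∧ (1 + 1 : F) = 0 ∧ w * w = w + 1 ∧ ∀ x, x = 0 ∨ x = 1 ∨ x = w ∨ x = w + 1 := by
  classical
  have h2 : (1 + 1 : F) = 0 := by
    have : ((4 : ℕ) : F) = 0 := hF ▸ FiniteField.cast_card_eq_zero F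
    exact mul_self_eq_zero.1 (by rw [← this]; norm_num)
  obtain ⟨w, -, hw⟩ := Finset.exists_mem_notMem_of_card_lt_card (s := ({0, 1} : Finset F)) (t := Finset.univ)
    (by rw [Finset.card_univ, hF, Finset.card_pair zero_ne_one]; norm_num)
  rw [Finset.mem_insert, Finset.mem_singleton, not_or] at hw
  have h3 : w ^ 4 = w := hF ▸ FiniteField.pow_card w
  have h4 : w * w = w + 1 := by
    have : w * (w - 1) * (w * w - (w + 1)) = 0 := by linear_combination h3 + (w - w ^ 3) * h2
    exact sub_eq_zero.1 ((mul_eq_zero.1 this).resolve_left (mul_ne_zero hw.1 (sub_ne_zero.2 hw.2)))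
  refine ⟨w, hw.1, hw.2, h2, h4, fun x => ?_⟩
  have h5 : x ^ 4 = x := hF ▸ FiniteField.pow_card x
  have : x * (x - 1) * (x - w) * (x - (w + 1)) = 0 := by
    linear_combination h5 + (x ^ 2 - x) * h4 + (-x ^ 3 * w - x ^ 3 + 2 * x ^ 2 * w + x ^ 2 - x * w) * h2
  simpa only [mul_eq_zero, sub_eq_zero, or_assoc] using this

theorem exists_module (hF : Fintype.card F = 4) {V : Type*} [AddCommGroup V] (h2 : ∀ v : V, v + v = 0) (ω : V →+ V)
    (hω : ∀ v, ω (ω v) = ω v + v) :
    ∃ _ : Module F V, ∀ φ : V →+ V, (∀ v, φ (ω v) = ω (φ v)) → ∀ (t : F) v, φ (t • v) = t • φ v := by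
  classical
  obtain ⟨w, w0, w1, h1, hw, hx⟩ := field4 hF
  have a0 : w + 1 ≠ 0 := fun e => w1 (by linear_combination e - h1)
  have a1 : w + 1 ≠ 1 := by simpa using w0
  have a2 : w + 1 ≠ w := by simp
  let o : AddMonoid.End V := ω
  have o1 : (1 + 1 : AddMonoid.End V) = 0 := by ext v; exact h2 v
  have o0 : o + o = 0 := by ext v; exact h2 _
  have o2 : o * o = o + 1 := by ext v; exact hω v
  let f : F → AddMonoid.End V := fun x => if x = 0 then 0 else if x = 1 then 1 else if x = w then o else o + 1
  have f0 : f 0 = 0 := by simp [f]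
  have f1 : f 1 = 1 := by simp [f]
  have fw : f w = o := by simp [f, w0, w1]
  have fw' : f (w + 1) = o + 1 := by simp [f, a0, w0]
  have b1 : w + w = 0 := by linear_combination w * h1
  have b2 : 1 + w = w + 1 := add_comm _ _
  have b3 : 1 + (w + 1) = w := by linear_combination h1
  have b4 : w + 1 + 1 = w := by linear_combination h1
  have b5 : w + (w + 1) = 1 := by linear_combination b1
  have b6 : w + 1 + w = 1 := by linear_combination b1
  have b7 : w + 1 + (w + 1) = 0 := by linear_combination b1 + h1
  have c1 : w * (w + 1) = 1 := by linear_combination hw + b1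
  have c2 : (w + 1) * w = 1 := by linear_combination hw + b1
  have c3 : (w + 1) * (w + 1) = w := by linear_combination hw + b1 + h1
  let g : F →+* AddMonoid.End V :=
    { toFun := f, map_one' := f1, map_zero' := f0
      map_add' := fun x y => by
        rcases hx x with rfl | rfl | rfl | rfl <;> rcases hx y with rfl | rfl | rfl | rfl <;>
          simp only [zero_add, add_zero, h1, b1, b2, b3, b4, b5, b6, b7, f0, f1, fw, fw', o0, o1]
        all_goals first | abel1 | linear_combination (norm := abel1) -o1 | linear_combination (norm := abel1) -o0 |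
          linear_combination (norm := abel1) -o0 - o1
      map_mul' := fun x y => by
        rcases hx x with rfl | rfl | rfl | rfl <;> rcases hx y with rfl | rfl | rfl | rfl <;>
          simp only [zero_mul, mul_zero, one_mul, mul_one, hw, c1, c2, c3, f0, f1, fw, fw', o2]
        all_goals simp only [mul_add, add_mul, o2, mul_one, one_mul]
        all_goals first | linear_combination (norm := abel1) -o0 | linear_combination (norm := abel1) -o0 - o1 }
  refine ⟨Module.compHom V g, fun φ h t v => ?_⟩
  change φ (f t v) = f t (φ v)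
  rcases hx t with rfl | rfl | rfl | rfl
  · simp [f0]
  · simp [f1]
  · rw [fw]; exact h v
  · rw [fw']; change φ (ω v + v) = ω (φ v) + φ v; rw [map_add, h]

theorem exists_embed (hF : Fintype.card F = 4) {G V : Type*} [Group G] [AddCommGroup V] [Module F V] (hV : Nat.card V = 16)
    (ρ : G →* Module.End F V) (c : G → V) (hc : ∀ g k, c (g * k) = c g + ρ g (c k)) (hi : ∀ g, ρ g = 1 → c g = 0 → g = 1) :
    ∃ f : G →* GL (Fin 3) F ⧸ center (GL (Fin 3) F), Function.Injective f := by
  have : Finite V := Nat.finite_of_card_ne_zero (by omega)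
  have h1 : finrank F V = 2 := by
    have := Module.natCard_eq_pow_finrank (K := F) (V := V)
    rw [hV, Nat.card_eq_fintype_card, hF] at this
    exact Nat.pow_right_injective (by norm_num : 2 ≤ 4) this.symm
  let b := Module.finBasisOfFinrankEq F (V × F) (n := 3) (by rw [finrank_prod, h1, finrank_self])
  have c1 : c 1 = 0 := by simpa using hc 1 1
  let τ : G →* Module.End F (V × F) :=
    { toFun := fun g => LinearMap.prod ((ρ g).coprod (LinearMap.toSpanSingleton F V (c g))) (LinearMap.snd F V F)
      map_one' := by ext <;> simp [c1]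
      map_mul' := fun g k => by ext <;> simp [hc, add_comm] }
  refine ⟨(QuotientGroup.mk' _).comp ((LinearMap.toMatrixAlgEquiv b).toMonoidHom.comp τ).toHomUnits,
    (injective_iff_map_eq_one _).2 fun g hg => ?_⟩
  obtain ⟨u, hu⟩ := Linear.gl_mem_center_iff.1 ((QuotientGroup.eq_one_iff _).1 hg)
  have h2 : τ g = algebraMap F _ u := (LinearMap.toMatrixAlgEquiv b).injective (by
    rw [AlgEquiv.commutes]; exact (congrArg Units.val hu).symm)
  have h3 := LinearMap.congr_fun h2 (0, 1)
  simp [τ] at h3
  refine hi g (LinearMap.ext fun v => ?_) h3.1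
  simpa [τ, ← h3.2] using congrArg Prod.fst (LinearMap.congr_fun h2 (v, 0))

end Cfsg.Lib.L34
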