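import Cfsg.Agent.Lib.L34.T2
import Cfsg.Agent.Lib.L34.T3
import Cfsg.Agent.S0051

/-! Sylow 2-subgroups of type `PSL₃(4)`: the case of a normal elementary abelian subgroup of order `16`. -/

set_option autoImplicit false
set_option linter.unusedSectionVars false

namespace Cfsg.Lib.L34
open Subgroup Cfsg.Lib.Core Cfsg.Lib.BG1 Cfsg.Lib.Invol Cfsg.Lib.Layer
open Cfsg.Lib.Amalg hiding le_cent_symm op_top
open scoped IsMulCommutative

universe u

variable {G : Type u} [Group G] [Finite G] {A B U Y : Subgroup G} {a a' b b' c g n s u v w x y z : G}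

local notation "β(" b ", " a ")" => a⁻¹ * (b * a * b⁻¹)

/-- a complement -/
structure Sp (A B U : Subgroup G) : Prop where
  le : U ≤ A
  dis : ∀ u ∈ U, u ∈ B → u = 1
  card : Nat.card U = 4

/-- members of the spread -/
def Cmp (A B U Y : Subgroup G) : Prop := Y = A ⊓ B ∨ ∃ b ∈ B, Y = cj b U

namespace T
variable (h : T A B)
include h

theorem be_mul (hb : b ∈ B) (ha : a ∈ A) (ha' : a' ∈ A) : β(b, a * a') = β(b, a) * β(b, a') := by
  have := h.comm (h.cm' ha hb).1 (inv_mem ha')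
  calc β(b, a * a') = a'⁻¹ * β(b, a) * (b * a' * b⁻¹) := by group
    _ = _ := by rw [← this]; group

theorem be_mul' (hb : b ∈ B) (hb' : b' ∈ B) (ha : a ∈ A) : β(b * b', a) = β(b, a) * β(b', a) := by
  have := h.symm.comm hb (h.cm' ha hb').2
  calc β(b * b', a) = β(b, a) * (b * β(b', a) * b⁻¹) := by group
    _ = _ := by rw [this]; group

theorem be_A (hb : b ∈ A) (ha : a ∈ A) : β(b, a) = 1 := by rw [h.comm hb ha]; simp

theorem be_eq_one (hb : b ∈ B) (h1 : b ∉ A) (ha : a ∈ A) (e : β(b, a) = 1) : a ∈ B :=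
  (h.cent_S (mem_sup_right hb) h1 ha).1 (inv_mul_eq_one.1 e).symm

theorem be_congr (hb : b ∈ B) (hb' : b' ∈ B) (hu : u ∈ A) (h1 : u ∉ B) (e : β(b, u) = β(b', u)) (ha : a ∈ A) :
    β(b, a) = β(b', a) := by
  have h2 : b * b' ∈ A := by_contra fun h2 => h1 (h.be_eq_one (mul_mem hb hb') h2 hu (by
    rw [h.be_mul' hb hb' hu, e]; exact h.sqZ _ (h.cm' hu hb')))
  have := h.be_A h2 ha
  rw [h.be_mul' hb hb' ha, mul_eq_one_iff_eq_inv, h.inv (h.cm' ha hb').1] at this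
  exact this

variable (k : Sp A B U)
include k

theorem dec (ha : a ∈ A) : ∃ u ∈ U, ∃ c ∈ A ⊓ B, u * c = a := by
  have h1 : U ≤ 𝐍(A ⊓ B) := k.le.trans (le_sup_left.trans (h.S_le.trans inf_le_right))
  have h2 := card_sup_mul_card_inf h1
  rw [show U ⊓ (A ⊓ B) = ⊥ from eq_bot_iff.2 fun u hu => k.dis u hu.1 hu.2.2, card_bot, k.card, h.cZ] at h2
  rw [← eq_of_le_of_card_ge (sup_le k.le inf_le_left : U ⊔ A ⊓ B ≤ A) (by rw [h.c]; omega)] at ha
  exact (mem_sup_of_le_normalizer h1).1 ha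

theorem exists_u : ∃ u ∈ U, u ≠ 1 := (bot_or_exists_ne_one _).resolve_left fun e => by
  have := k.card
  rw [e, card_bot] at this
  omega

/-- commutation with `b` -/
def fb (hb : b ∈ B) : U →* ↥(A ⊓ B) :=
  MonoidHom.mk' (fun u => ⟨_, h.cm' (k.le u.2) hb⟩) fun x y => Subtype.ext (h.be_mul hb (k.le x.2) (k.le y.2))

theorem fb_bij (hb : b ∈ B) (h1 : b ∉ A) : Function.Bijective (h.fb k hb) :=
  (Nat.bijective_iff_injective_and_card _).2 ⟨(injective_iff_map_eq_one _).2 fun x e =>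
    Subtype.ext (k.dis _ x.2 (h.be_eq_one hb h1 (k.le x.2) (congrArg Subtype.val e))), by rw [k.card, h.cZ]⟩

theorem exists_om : ∃ ω : A →* A, (∀ a, ω (ω a) = ω a * a) ∧ ∀ Y, Cmp A B U Y → ∀ a : A, (a : G) ∈ Y → (ω a : G) ∈ Y := by
  have : IsMulCommutative A := ⟨⟨fun x y => Subtype.ext (h.comm x.2 y.2)⟩⟩
  have : IsMulCommutative U := ⟨⟨fun x y => Subtype.ext (h.comm (k.le x.2) (k.le y.2))⟩⟩
  obtain ⟨b, hb, h1⟩ := h.symm.exists_a
  obtain ⟨c, hc, h2, h3⟩ := h.exists_b2 hb h1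
  let e := MulEquiv.ofBijective _ (h.fb_bij k hb h1)
  let σ : U →* U := e.symm.toMonoidHom.comp (h.fb k hc)
  have hσ : ∀ u : U, β(b, (σ u : G)) = β(c, (u : G)) := fun u => congrArg Subtype.val (e.apply_symm_apply _)
  have s1 : ∀ u, σ u = 1 → u = 1 := (injective_iff_map_eq_one _).1 (e.symm.injective.comp (h.fb_bij k hc h2).1)
  have s2 : ∀ u, σ u = u → u = 1 := fun u hu => Subtype.ext (k.dis _ u.2 (h.be_eq_one (mul_mem hb hc) h3 (k.le u.2) (by
    rw [h.be_mul' hb hc (k.le u.2), ← hσ, hu]; exact h.sqZ _ (h.cm' (k.le u.2) hb))))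
  have u2 : ∀ u : U, u * u = 1 := fun u => Subtype.ext (h.sq _ (k.le u.2))
  have s3 : ∀ u, σ (σ u) = σ u * u := fun u => by
    by_cases hu : u = 1
    · simp [hu]
    have h4 : σ u ≠ 1 := mt (s1 u) hu
    rcases four (V := ⊤) (by rw [card_top, k.card]) (mem_top (σ u)) (mem_top u) h4 hu (mt (s2 u) hu) (u2 _)
      (mem_top (σ (σ u))) with e | e | e | e
    · exact absurd e (mt (s1 _) h4)
    · exact absurd e (mt (s2 _) h4)
    · have := s2 (σ u * u) (by rw [map_mul, e, mul_comm])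
      rw [mul_eq_one_iff_eq_inv, inv_eq_of_mul_eq_one_right (u2 u)] at this
      exact absurd (s2 u this) hu
    · exact e
  let p : U × U →* A := (inclusion k.le).coprod ((inclusion inf_le_left).comp (h.fb k hb))
  have hp : ∀ u v : U, (p (u, v) : G) = u * β(b, (v : G)) := fun _ _ => rfl
  let π := MulEquiv.ofBijective p ((Nat.bijective_iff_injective_and_card _).2 ⟨(injective_iff_map_eq_one _).2 fun x e => by
    have e1 : (x.1 : G) * β(b, (x.2 : G)) = 1 := congrArg Subtype.val e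
    have e2 := k.dis _ x.1.2 (eq_inv_of_mul_eq_one_left e1 ▸ inv_mem (h.cm' (k.le x.2.2) hb).2)
    rw [e2, one_mul] at e1
    exact Prod.ext (Subtype.ext e2) (Subtype.ext (k.dis _ x.2.2 (h.be_eq_one hb h1 (k.le x.2.2) e1))),
    by rw [Nat.card_prod, k.card, h.c]⟩)
  let ω : A →* A := π.toMonoidHom.comp ((σ.prodMap σ).comp π.symm.toMonoidHom)
  have hω : ∀ u v, ω (p (u, v)) = p (σ u, σ v) := fun u v => congrArg (fun x => π (σ.prodMap σ x)) (π.symm_apply_apply (u, v))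
  refine ⟨ω, fun a => ?_, fun Y hY a ha => ?_⟩
  · obtain ⟨⟨u, v⟩, rfl⟩ := π.surjective a
    change ω (ω (p _)) = ω (p _) * p _
    rw [hω, hω, s3, s3, ← map_mul]; rfl
  rcases hY with rfl | ⟨d, hd, rfl⟩
  · obtain ⟨u, e⟩ := (h.fb_bij k hb h1).2 ⟨a, ha⟩
    rw [show a = p (1, u) from Subtype.ext ((congrArg Subtype.val e).symm.trans (one_mul _).symm), hω, hp, map_one]
    simpa using h.cm' (k.le (σ u).2) hb
  obtain ⟨u, hu, e⟩ := mem_cj'.1 ha
  suffices ∃ τ : U →* U, (∀ u : U, β(b, (τ u : G)) = β(d, (u : G))) ∧ ∀ u, σ (τ u) = τ (σ u) by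
    obtain ⟨τ, t1, t2⟩ := this
    rw [show a = p (⟨u, hu⟩, τ ⟨u, hu⟩) from Subtype.ext (by rw [hp, t1, ← e]; simp), hω, hp, t2, t1, mul_inv_cancel_left]
    exact conj_mem_cj d (σ _).2
  obtain ⟨v, hv, v1⟩ := h.exists_u k
  have hv' := mt (k.dis v hv) v1
  have hA := k.le hv
  rcases four h.cZ (h.cm' hA hb) (h.cm' hA hc) (mt (h.be_eq_one hb h1 hA) hv') (mt (h.be_eq_one hc h2 hA) hv')
    (fun e => hv' (h.be_eq_one (mul_mem hb hc) h3 hA (by rw [h.be_mul' hb hc hA, e]; exact h.sqZ _ (h.cm' hA hc))))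
    (h.sqZ _ (h.cm' hA hb)) (h.cm' hA hd) with e | e | e | e
  · exact ⟨1, fun u => by rw [h.be_congr hd (one_mem _) hA hv' (by simpa using e) (k.le u.2)]; simp, by simp⟩
  · exact ⟨MonoidHom.id _, fun u => (h.be_congr hd hb hA hv' e (k.le u.2)).symm, by simp⟩
  · exact ⟨σ, fun u => (hσ u).trans (h.be_congr hd hc hA hv' e (k.le u.2)).symm, by simp⟩
  · refine ⟨MonoidHom.id _ * σ, fun u => ?_, by simp⟩
    rw [h.be_congr hd (mul_mem hb hc) hA hv' (e.trans (h.be_mul' hb hc hA).symm) (k.le u.2), h.be_mul' hb hc (k.le u.2), ← hσ]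
    exact h.be_mul hb (k.le u.2) (k.le (σ u).2)

theorem comm_be {e : A →* A} (he : ∀ Y, Cmp A B U Y → ∀ a : A, (a : G) ∈ Y → (e a : G) ∈ Y) (hb : b ∈ B) {u : A}
    (hu : (u : G) ∈ U) : (e ⟨_, (h.cm' u.2 hb).1⟩ : G) = β(b, (e u : G)) := by
  have h1 := he _ (Or.inr ⟨1, one_mem _, rfl⟩) u (by rwa [cj_one])
  rw [cj_one] at h1
  have h2 := he _ (Or.inl rfl) ⟨_, (h.cm' u.2 hb).1⟩ (h.cm' u.2 hb)
  obtain ⟨v, hv, e1⟩ := mem_cj'.1 (he _ (Or.inr ⟨b, hb, rfl⟩) (u * ⟨_, (h.cm' u.2 hb).1⟩) (by simpa using conj_mem_cj b hu))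
  rw [map_mul, coe_mul, ← mul_inv_cancel_left v (b * v * b⁻¹)] at e1
  have e2 := k.dis _ (mul_mem (inv_mem h1) hv) (by
    rw [show (e u : G)⁻¹ * v = e ⟨_, (h.cm' u.2 hb).1⟩ * (β(b, v))⁻¹ by rw [eq_mul_inv_iff_mul_eq, mul_assoc, e1]; simp]
    exact mul_mem h2.2 (inv_mem (h.cm' (k.le hv) hb).2))
  rw [← inv_mul_eq_one.1 e2] at e1
  exact (mul_left_cancel e1).symm

theorem triv {e : A →* A} (he : ∀ Y, Cmp A B U Y → ∀ a : A, (a : G) ∈ Y → (e a : G) ∈ Y) {u : A} (hu : (u : G) ∈ U)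
    (u1 : u ≠ 1) (h1 : e u = 1) (a : A) : e a = 1 := by
  have h2 : ∀ c : A, (c : G) ∈ B → e c = 1 := fun c hc => by
    obtain ⟨b, hb, e1⟩ := h.surj u.2 (fun e => u1 (Subtype.ext (k.dis _ hu e))) ⟨c.2, hc⟩
    have := h.comm_be k he hb hu
    rw [h1] at this
    exact Subtype.ext (by simpa [e1] using this)
  obtain ⟨v, hv, c, hc, e1⟩ := h.dec k a.2
  obtain ⟨b, hb, h3⟩ := h.symm.exists_a
  have := h.comm_be k he hb (u := ⟨v, k.le hv⟩) hv
  rw [h2 _ (h.cm' (k.le hv) hb).2] at this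
  rw [show a = ⟨v, k.le hv⟩ * ⟨c, hc.1⟩ from Subtype.ext e1.symm, map_mul, h2 ⟨c, hc.1⟩ hc.2, mul_one]
  have h4 := he _ (Or.inr ⟨1, one_mem _, rfl⟩) ⟨v, k.le hv⟩ (by rwa [cj_one])
  rw [cj_one] at h4
  exact Subtype.ext (k.dis _ h4 (h.be_eq_one hb h3 (e _).2 this.symm))

theorem exists_om' [A.Normal] (hI : ∀ g Y, Cmp A B U Y → Cmp A B U (cj g Y)) :
    ∃ ω : A →* A, (∀ a, ω (ω a) = ω a * a) ∧ ∀ (g : G) a, MulAut.conjNormal g (ω a) = ω (MulAut.conjNormal g a) := by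
  have : IsMulCommutative A := ⟨⟨fun x y => Subtype.ext (h.comm x.2 y.2)⟩⟩
  obtain ⟨ω, h1, h2⟩ := h.exists_om k
  have a2 : ∀ a : A, a * a = 1 := fun a => Subtype.ext (h.sq _ a.2)
  let D : Subgroup G :=
    { carrier := {g | ∀ a, MulAut.conjNormal g (ω a) = ω (MulAut.conjNormal g a)}
      one_mem' := fun a => by simp
      mul_mem' := fun {x y} hx hy a => by simp only [map_mul, MulAut.mul_apply, hy a, hx _]
      inv_mem' := fun {x} hx a => by
        rw [map_inv, MulAut.inv_apply, MulAut.inv_apply, MulEquiv.symm_apply_eq, hx, MulEquiv.apply_symm_apply] }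
  obtain ⟨u, hu, u1⟩ := h.exists_u k
  let v : A := ⟨u, k.le hu⟩
  have v1 : v ≠ 1 := fun e => u1 (congrArg Subtype.val e)
  have hU : Cmp A B U U := Or.inr ⟨1, one_mem _, (cj_one U).symm⟩
  have key : ∀ g ∉ D, ∀ a, MulAut.conjNormal g (ω a) = MulAut.conjNormal g a * ω (MulAut.conjNormal g a) := fun g hg => by
    let ω' : A →* A := (MulAut.conjNormal g).toMonoidHom.comp (ω.comp (MulAut.conjNormal g).symm.toMonoidHom)
    have h3 : ∀ a, ω' (MulAut.conjNormal g a) = MulAut.conjNormal g (ω a) := fun a => by simp [ω']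
    have h4 : ∀ Y, Cmp A B U Y → ∀ a : A, (a : G) ∈ Y → (ω' a : G) ∈ Y := fun Y hY a ha => by
      obtain ⟨a, rfl⟩ := (MulAut.conjNormal g).surjective a
      rw [h3]
      have := mem_cj.1 (h2 _ (hI g⁻¹ Y hY) a (mem_cj.2 (by simpa using ha)))
      rwa [inv_inv] at this
    have h5 : ∀ a, ω' (ω' a) = ω' a * a := fun a => by
      obtain ⟨a, rfl⟩ := (MulAut.conjNormal g).surjective a
      rw [h3, h3, h1, map_mul]
    have n1 : ∀ ω : A →* A, (∀ a, ω (ω a) = ω a * a) → ω v ≠ 1 ∧ v ≠ ω v := fun ω hω =>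
      ⟨fun e => v1 (by simpa [e] using (hω v).symm), fun e => v1 (by simpa [← e] using hω v)⟩
    rcases four k.card hu (h2 _ hU v hu) u1 (fun e => (n1 ω h1).1 (Subtype.ext e)) (fun e => (n1 ω h1).2 (Subtype.ext e))
      (h.sq u v.2) (h4 _ hU v hu) with e | e | e | e
    · exact absurd (Subtype.ext e) (n1 ω' h5).1
    · exact absurd (Subtype.ext e.symm) (n1 ω' h5).2
    · refine absurd (fun a => ?_) hg
      have := h.triv k (e := ω' * ω) (fun Y hY a ha => mul_mem (h4 Y hY a ha) (h2 Y hY a ha)) hu v1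
        (by rw [MonoidHom.mul_apply, show ω' v = ω v from Subtype.ext e, a2]) (MulAut.conjNormal g a)
      rwa [MonoidHom.mul_apply, h3, mul_eq_one_iff_eq_inv, inv_eq_of_mul_eq_one_right (a2 _)] at this
    · intro a
      have := h.triv k (e := ω' * (MonoidHom.id _ * ω)) (fun Y hY a ha => mul_mem (h4 Y hY a ha) (mul_mem ha (h2 Y hY a ha)))
        hu v1 (by rw [MonoidHom.mul_apply, show ω' v = v * ω v from Subtype.ext e]; exact a2 _) (MulAut.conjNormal g a)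
      rwa [MonoidHom.mul_apply, h3, mul_eq_one_iff_eq_inv, inv_eq_of_mul_eq_one_right (a2 _)] at this
  have hD : ∀ x ∉ D, ∀ y ∉ D, x * y ∈ D := fun x hx y hy a => by
    rw [map_mul, MulAut.mul_apply, MulAut.mul_apply, key y hy, map_mul, key x hx, ← mul_assoc, a2, one_mul]
  have hS : A ⊔ B ≤ D := sup_le (fun x hx a => by
    have : ∀ a : A, MulAut.conjNormal x a = a := fun a => Subtype.ext (by simp [h.comm hx a.2])
    rw [this, this]) fun b hb a => by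
      obtain ⟨v, hv, c, hc, e1⟩ := h.dec k a.2
      have e2 : ∀ c : A, (c : G) ∈ B → MulAut.conjNormal b c = c := fun c hc => Subtype.ext (by simp [h.symm.comm hb hc])
      rw [show a = ⟨v, k.le hv⟩ * ⟨c, hc.1⟩ from Subtype.ext e1.symm, map_mul, map_mul, map_mul, map_mul, e2 ⟨c, hc.1⟩ hc.2,
        e2 _ (h2 _ (Or.inl rfl) ⟨c, hc.1⟩ hc).2, show MulAut.conjNormal b (⟨v, k.le hv⟩ : A) = ⟨v, k.le hv⟩ * ⟨_, (h.cm' (k.le hv) hb).1⟩
          from Subtype.ext (by simp), map_mul]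
      refine Subtype.ext ?_
      rw [coe_mul, coe_mul, coe_mul, h.comm_be k h2 hb (u := ⟨v, k.le hv⟩) hv]
      simp
  refine ⟨ω, h1, fun g => show g ∈ D from mem_of_pow h.syl (fun y _ => cj_le_iff'.2 fun s hs => ?_) (mem_top g) (k := 1) ?_⟩
  · by_cases hy : y ∈ D
    · exact mul_mem (mul_mem hy (hS hs)) (inv_mem hy)
    · exact hD _ (fun e => hy ((mul_mem_cancel_right (hS hs)).1 e)) _ (mt inv_mem_iff.1 hy)
  · rw [pow_one, pow_two]
    by_cases hg : g ∈ D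
    exacts [mul_mem hg hg, hD _ hg _ hg]

omit k

theorem cent_eq [A.Normal] (hO : pPrimeCore 2 G = ⊥) : 𝐂(A) = A := by
  have h1 : Syl 2 A 𝐂(A) := by
    convert h.syl.inf_normal_top 𝐂(A) using 1
    refine le_antisymm (le_inf le_sup_left h.le_cent) fun s hs => by_contra fun e => ?_
    obtain ⟨a, ha, h2⟩ := h.exists_a
    exact h2 ((h.cent_S hs.1 e ha).1 (by rw [← hs.2 a ha, mul_inv_cancel_right]))
  have := res_normal (p := 2) 𝐂(A)
  rw [← h1.res_sup, le_bot_iff.1 ((le_pPrimeCore (h1.coprime_res inf_le_left)).trans hO.le), bot_sup_eq]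

theorem exists_sp [A.Normal] (hC : 𝐂(A) = A) : ∃ U, Sp A B U ∧ ∀ g Y, Cmp A B U Y → Cmp A B U (cj g Y) := by
  have hN : ∀ g, g ∈ 𝐍(A) := fun g => le_normalizer_of_normal (mem_top g)
  suffices ∃ U, Sp A B U ∧ (∀ g, Cmp A B U (cj g (A ⊓ B))) ∧ ∀ g, Cmp A B U (cj g U) by
    obtain ⟨U, h1, h2, h3⟩ := this
    refine ⟨U, h1, fun g Y hY => ?_⟩
    rcases hY with rfl | ⟨b, -, rfl⟩
    exacts [h2 g, cj_mul g b U ▸ h3 _]
  by_cases hZ : ∀ g, g ∈ 𝐍(A ⊓ B)
  · have : (A ⊔ B).Normal := normal_of_top_le_normalizer fun g _ => by simpa [hC] using h.n_chain (hN g) (hZ g)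
    obtain ⟨n, hn⟩ := h.pS.exists_card_eq
    obtain ⟨H, hH⟩ := exists_right_complement'_of_coprime (N := A ⊔ B)
      (hn ▸ Nat.Coprime.pow_left n ((Nat.Prime.coprime_iff_not_dvd Nat.prime_two).2 h.syl.not_dvd_index))
    obtain ⟨U, h1, h2, h3⟩ := maschke_abelem (A := H) (U := A ⊓ B) (V := A) Nat.prime_two
      ⟨⟨⟨fun x y => Subtype.ext (h.comm x.2 y.2)⟩⟩, fun a ha => by rw [pow_two, h.sq a ha]⟩
      (hH.symm.index_eq_card ▸ h.syl.not_dvd_index) inf_le_left (fun g _ => hN g) fun g _ => hZ g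
    have h4 : U ≤ A := h1 ▸ le_sup_right
    have h5 := card_sup_mul_card_inf' (H := A ⊓ B) (K := U) fun g _ => hZ g
    rw [h1, h2, card_bot, h.c, h.cZ] at h5
    refine ⟨U, ⟨h4, fun u hu hb => h2.le ⟨⟨h4 hu, hb⟩, hu⟩, by omega⟩, fun g => Or.inl (cj_of_mem_normalizer (hZ g)), fun g => ?_⟩
    obtain ⟨⟨s, x⟩, rfl⟩ := hH.2 g
    obtain ⟨a, ha, b, hb, e⟩ := h.mem_S.1 s.2
    refine Or.inr ⟨b, hb, ?_⟩
    simp only [← e, cj_mul, cj_of_mem_normalizer (h3 x.2)]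
    exact cj_of_mem_centralizer (centralizer_le (cj_le_of_le_of_mem_normalizer h4 (hN b)) (h.le_cent ha))
  obtain ⟨x, hx⟩ := not_forall.1 hZ
  have k : Sp A B (cj x (A ⊓ B)) := ⟨cj_le_of_le_of_mem_normalizer inf_le_left (hN x), fun u hu hb => by_contra fun u1 => by
    obtain ⟨z, hz, rfl⟩ := mem_cj'.1 hu
    exact hx (h.ti (hN x) hz (by simpa using u1) hb), by rw [card_cj, h.cZ]⟩
  suffices ∀ g, Cmp A B (cj x (A ⊓ B)) (cj g (A ⊓ B)) from ⟨_, k, this, fun g => cj_mul g x (A ⊓ B) ▸ this _⟩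
  intro g
  obtain ⟨z, hz, z1⟩ := (h.conjN (hN g)).exists_z
  obtain ⟨u, hu, c, hc, rfl⟩ := h.dec k hz.1
  rw [h.cj_Z (hN g)]
  by_cases u1 : u = 1
  · subst u1
    exact Or.inl ((h.conjN (hN g)).ti' h hz (by simpa using hc.2) z1)
  obtain ⟨b, hb, rfl⟩ := h.surj (k.le hu) (mt (k.dis u hu) u1) hc
  refine Or.inr ⟨b, hb, ?_⟩
  rw [← cj_mul, h.cj_Z (hN _)]
  refine (h.conjN (hN g)).ti' (h.conjN (hN _)) hz ?_ z1
  rw [mul_inv_cancel_left, cj_mul]
  exact conj_mem_cj b (cj_mono x inf_le_right hu)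

theorem embed_normal [A.Normal] (hO : pPrimeCore 2 G = ⊥) {F : Type*} [Field F] [Fintype F] (hF : Fintype.card F = 4) :
    ∃ f : G →* GL (Fin 3) F ⧸ center (GL (Fin 3) F), Function.Injective f := by
  have : IsMulCommutative A := ⟨⟨fun x y => Subtype.ext (h.comm x.2 y.2)⟩⟩
  have hC := h.cent_eq hO
  obtain ⟨U, k, hI⟩ := h.exists_sp hC
  obtain ⟨ω, h1, h2⟩ := h.exists_om' k hI
  obtain ⟨_, h3⟩ := exists_module hF (V := Additive A) (fun v => congrArg Additive.ofMul (Subtype.ext (h.sq _ v.toMul.2)))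
    (MonoidHom.toAdditive ω) fun v => congrArg Additive.ofMul (h1 v.toMul)
  obtain ⟨W, w1, w2⟩ := exists_compl_abelem (U := B ⊓ A) (V := B) Nat.prime_two
    ⟨⟨⟨fun x y => Subtype.ext (h.symm.comm x.2 y.2)⟩⟩, fun a ha => by rw [pow_two, h.sq' a ha]⟩ inf_le_left
  have w3 : W ≤ B := w1 ▸ le_sup_right
  obtain ⟨H, hH⟩ := Agent.S0051.result A (A ⊔ B) le_sup_left
    (h.c ▸ Nat.Coprime.pow_left 4 ((Nat.Prime.coprime_iff_not_dvd Nat.prime_two).2 h.syl.not_dvd_index)) W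
    (w3.trans le_sup_right) (eq_bot_iff.2 fun w hw => w2.le ⟨⟨w3 hw.1, hw.2⟩, hw.1⟩)
    (by conv_rhs => rw [← w1, ← sup_assoc, sup_eq_left.2 (inf_le_right : B ⊓ A ≤ A)])
  let φ : G → Additive A →+ Additive A := fun g => MonoidHom.toAdditive (MulAut.conjNormal g : A ≃* A).toMonoidHom
  let ρ : G →* Module.End F (Additive A) :=
    { toFun := fun g => ⟨φ g, h3 (φ g) fun v => congrArg Additive.ofMul (h2 g v.toMul)⟩
      map_one' := LinearMap.ext fun v => by simp [φ]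
      map_mul' := fun g k => LinearMap.ext fun v => by simp [φ] }
  have h4 : ∀ x ∈ A, x ∈ H → x = 1 := fun x h1 h2 => hH.disjoint.le_bot ⟨h1, h2⟩
  obtain ⟨c, hc⟩ : ∃ c : G → A, ∀ g, (c g : G)⁻¹ * g ∈ H :=
    ⟨fun g => (hH.equiv g).1, fun g => hH.equiv_snd_eq_inv_mul g ▸ (hH.equiv g).2.2⟩
  refine exists_embed (V := Additive A) hF h.c ρ (fun g => Additive.ofMul (c g)) (fun g k => congrArg Additive.ofMul (Subtype.ext ?_))
    fun g e1 e2 => h4 g (hC.le fun a ha => ?_) ?_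
  · change (c (g * k) : G) = c g * (g * c k * g⁻¹)
    have h5 := Normal.conj_mem inferInstance _ (c k).2 g
    refine inv_mul_eq_one.1 (h4 _ (mul_mem (inv_mem (c _).2) (mul_mem (c g).2 h5)) ?_)
    have := mul_mem (hc (g * k)) (inv_mem (mul_mem (hc g) (hc k)))
    rw [h.comm (c g).2 h5]
    convert this using 1; group
  · have : g * a * g⁻¹ = a := congrArg (fun v => (v.toMul : G)) (LinearMap.congr_fun e1 (Additive.ofMul ⟨a, ha⟩))
    exact (mul_inv_eq_iff_eq_mul.1 this).symm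
  · simpa [show c g = 1 from e2] using hc g

end T

end Cfsg.Lib.L34
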