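import Cfsg.Agent.Lib.L34.T5
import Cfsg.Agent.Lib.L34.Plane
import Cfsg.Agent.Lib.Exc.CIT4

/-! Sylow 2-subgroups of type `PSL₃(4)`: the projective plane. -/

set_option autoImplicit false
set_option linter.unusedSectionVars false

namespace Cfsg.Lib.L34
open Subgroup Cfsg.Lib.Core Cfsg.Lib.BG1 Cfsg.Lib.Invol Cfsg.Lib.Layer
open Cfsg.Lib.Amalg hiding le_cent_symm op_top
open scoped Pointwise

universe u

variable {G : Type u} [Group G] [Finite G] {A B D H K L P V : Subgroup G} {a b c d g l n s t u v w x y z : G}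

theorem mem_of_coprime {i j : ℕ} (h1 : n ^ i ∈ H) (h2 : n ^ j ∈ H) (h : i.Coprime j) : n ∈ H := by
  have h3 : (i : ℤ) * Nat.gcdA i j + j * Nat.gcdB i j = 1 := by rw [← Nat.gcd_eq_gcd_ab, h.gcd_eq_one]; rfl
  rw [← zpow_one n, ← h3, zpow_add, zpow_mul, zpow_mul, zpow_natCast, zpow_natCast]
  exact mul_mem (zpow_mem h1 _) (zpow_mem h2 _)

theorem eq_one_of_odd (hP : IsPGroup 2 P) (hl : l ∈ P) (ho : Odd (orderOf l)) : l = 1 := by
  obtain ⟨k, hk⟩ := isPGroup_iff_mem.1 hP l hl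
  exact mem_of_coprime (H := ⊥) hk (pow_orderOf_eq_one l) (Nat.Coprime.pow_left k ((Nat.coprime_two_left).2 ho))

theorem fix_inv (hV : ∀ v ∈ V, v * v = 1) (hd : d * d = 1) (hn : d ∈ 𝐍(V)) (hw : w ∈ V) (w1 : w ≠ 1) :
    ∃ w ∈ V, w ≠ 1 ∧ Commute d w := by
  have h1 := (mem_normalizer_iff.1 hn w).1 hw
  by_cases e : d * w * d⁻¹ = w
  · exact ⟨w, hw, w1, mul_inv_eq_iff_eq_mul.1 e⟩
  refine ⟨w * (d * w * d⁻¹), mul_mem hw h1, fun e' => e (mul_left_cancel (e'.trans (hV w hw).symm)), ?_⟩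
  rw [Commute, SemiconjBy, comm_of_sq hV hw h1]
  calc d * (d * w * d⁻¹ * w) = d * d * w * (d * d)⁻¹ * d * w := by group
    _ = w * (d * w * d⁻¹) * d := by rw [hd]; group
    _ = _ := by rw [comm_of_sq hV hw h1]

theorem five (hD : Nat.card D = 15 ∨ Nat.card D = 45) (hl : l ∈ D) (ho : Odd (orderOf l)) :
    ∃ y ∈ D, orderOf y = 5 ∧ Commute l y := by
  have : Fact (Nat.Prime 5) := ⟨by norm_num⟩
  obtain ⟨y, hy⟩ := exists_prime_orderOf_dvd_card' (G := D) 5 (by omega)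
  have y5 : orderOf (y : G) = 5 := (orderOf_coe y).trans hy
  have h1 : Nat.card (zpowers y) = 5 := (Nat.card_zpowers y).trans hy
  have h2 := (zpowers y).card_mul_index
  rw [h1] at h2
  let Q := (IsPGroup.of_card (n := 1) h1).toSylow (show ¬ 5 ∣ (zpowers y).index by rcases hD with e | e <;> omega)
  have h3 : Nat.card (Sylow 5 D) = 1 := by
    have e1 := card_sylow_modEq_one 5 D
    have e2 : Nat.card (Sylow 5 D) ∣ 9 := Q.card_dvd_index.trans (by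
      change (zpowers y).index ∣ 9
      rcases hD with e | e
      · rw [show (zpowers y).index = 3 by omega]; norm_num
      · rw [show (zpowers y).index = 9 by omega])
    have := Nat.le_of_dvd (by norm_num) e2
    generalize Nat.card (Sylow 5 D) = m at *
    interval_cases m <;> simp_all [Nat.ModEq]
  have := (Nat.card_eq_one_iff_unique.1 h3).1
  have h4 : (zpowers y).Normal := Q.normal_of_subsingleton
  have h5 : MulAut.conjNormal ((⟨l, hl⟩ : D) ^ 4) = (1 : MulAut (zpowers y)) := by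
    rw [map_pow, show 4 = Nat.card (MulAut (zpowers y)) by rw [IsCyclic.card_mulAut, h1]; rfl, pow_card_eq_one']
  have h6 : l ^ 4 * y * (l ^ 4)⁻¹ = y := congrArg (fun f : MulAut (zpowers y) => ((f ⟨y, mem_zpowers y⟩ : D) : G)) h5
  exact ⟨y, y.2, y5, mem_cent.1 (mem_of_coprime (mem_cent.2 (mul_inv_eq_iff_eq_mul.1 h6))
    (pow_orderOf_eq_one l ▸ one_mem _) (Nat.Coprime.pow_left 2 ((Nat.coprime_two_left).2 ho)))⟩

theorem T.line_eq (h : T A B) (h1 : T P B) (h2 : T A L) (h3 : T P L) (hd : A ⊓ P = ⊥) : B = L := by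
  have h4 : B ⊓ A ≤ 𝐍(B ⊓ P) := fun x hx => centralizer_le_normalizer _ fun y hy => h.symm.comm hy.1 hx.1
  have h5 := card_sup_mul_card_inf h4
  rw [show B ⊓ A ⊓ (B ⊓ P) = ⊥ from eq_bot_iff.2 fun x hx => hd.le ⟨hx.1.2, hx.2.2⟩, card_bot, h.symm.cZ, h1.symm.cZ] at h5
  have h6 : B ≤ 𝐍(L) := (eq_of_le_of_card_ge (sup_le inf_le_left inf_le_left : B ⊓ A ⊔ B ⊓ P ≤ B) (by rw [h.c']; omega)).ge.trans
    (sup_le (inf_le_right.trans (le_sup_left.trans h2.nB)) (inf_le_right.trans (le_sup_left.trans h3.nB)))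
  obtain ⟨u, hu, h7⟩ := (h2.syl.of_le h2.nB le_top).exists_conj_le h.symm.pA h6
  rcases h2.eq_or h7 (h.conj u).sq' (h.conj u).c' with e | e
  · exact absurd e (h.symm.cj_ne u)
  · exact cj_inj.1 (e.trans (cj_of_mem_normalizer hu).symm)

namespace Mn
variable (h : Mn A B)
include h

theorem symm : Mn B A := ⟨h.toT.symm, h.tr', h.tr, fun z hz z1 => inf_comm 𝐍(A) 𝐍(B) ▸ h.cz z ⟨hz.2, hz.1⟩ z1, h.cB, h.cA⟩

theorem ti (hw : w ∈ A) (h1 : w ≠ 1) (h2 : x * w * x⁻¹ ∈ A) : x ∈ 𝐍(A) := by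
  obtain ⟨c, hc, h3⟩ := h.exists_z
  obtain ⟨k, hk, rfl⟩ := h.tr c hc h3 w hw h1
  obtain ⟨k', hk', e⟩ := h.tr c hc h3 _ h2 fun e => h1 (by simpa using e)
  have : k'⁻¹ * x * k ∈ 𝐂[c] := mem_cent.2 (by
    calc k'⁻¹ * x * k * c = k'⁻¹ * (x * (k * c * k⁻¹) * x⁻¹) * (x * k) := by group
      _ = c * (k'⁻¹ * x * k) := by rw [← e]; group)
  exact (mul_mem_cancel_left (inv_mem hk')).1 ((mul_mem_cancel_right hk).1 (h.cz c hc h3 this).1)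

theorem NZ_eq : 𝐍(A ⊓ B) = 𝐍(A) ⊓ 𝐍(B) := by
  obtain ⟨c, hc, h1⟩ := h.exists_z
  exact le_antisymm (fun x hx => ⟨h.ti hc.1 h1 ((mem_normalizer_iff.1 hx c).1 hc).1,
    h.symm.ti hc.2 h1 ((mem_normalizer_iff.1 hx c).1 hc).2⟩) (le_normalizer_inf inf_le_left inf_le_right)

theorem cent_N (hc : c ∈ A ⊓ B) (h1 : c ≠ 1) (hx : Commute (g * c * g⁻¹) x) : x ∈ 𝐍(cj g (A ⊔ B)) := by
  rw [← cj_normalizer]
  refine cj_mono g ((h.cz c hc h1).trans (le_normalizer_sup inf_le_left inf_le_right)) ?_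
  rw [cj_centralizer_singleton]
  exact mem_cent.2 hx.symm

theorem cent_S (hc : c ∈ A ⊓ B) (h1 : c ≠ 1) (hx : Commute (g * c * g⁻¹) x) (h2 : x * x = 1) : x ∈ cj g (A ⊔ B) :=
  (h.syl.conj_top g).mem_of_mem_normalizer (k := 1) (by rw [pow_one, pow_two, h2]) (mem_top x) (h.cent_N hc h1 hx)

theorem real (ho : Odd (orderOf l)) (ht : t * t = 1) (e : t * l * t⁻¹ = l⁻¹) (hw : w * w = 1) (w1 : w ≠ 1) (hc : Commute l w) :
    l = 1 := by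
  have h1 : t ∈ 𝐍(𝐂[l]) := cj_eq_self_iff.1 (by
    rw [cj_centralizer_singleton, e]; ext; rw [mem_cent, mem_cent, Commute.inv_right_iff])
  obtain ⟨R, h2, h3⟩ := exists_syl_ge (H := 𝐂[l] ⊔ zpowers t)
    (isPGroup_zpowers_of_pow (p := 2) (k := 1) (by rw [pow_one, pow_two, ht])) le_sup_right
  have h4 : 𝐂[l] ⊔ zpowers t ≤ 𝐍(𝐂[l]) := sup_le le_normalizer (zpowers_le.2 h1)
  have h5 := inf_center_ne_bot h2.isPGroup inf_le_left (le_normalizer_inf le_normalizer (h2.le.trans h4))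
    ((h2.inf_normal le_sup_left h4).ne_bot (two_of_mul_self hw w1 ▸ orderOf_dvd_natCard _ (mem_cent.2 hc.symm)))
  obtain ⟨u, hu⟩ := exists_prime_orderOf_dvd_card' 2
    (dvd_card_of_isPGroup_ne_bot (h2.isPGroup.to_le (inf_le_left.trans inf_le_left)) h5)
  obtain ⟨c, hc, c1⟩ := h.exists_z
  obtain ⟨g, e'⟩ := h.exists_conj h.tr h.tr' hc c1 ((orderOf_coe u).trans hu)
  have h6 := h.cent_S hc c1 (x := t) (e' ▸ (u.2.2 t (h3 (mem_zpowers t))).symm) ht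
  have h7 := h.cent_N hc c1 (x := l) (e' ▸ mem_cent.1 u.2.1.2)
  have h8 := mul_mem ((mem_normalizer_iff.1 h7 t).1 h6) (inv_mem h6)
  rw [mul_assoc l, mul_assoc l, ← conj_inv, e, inv_inv] at h8
  exact mem_of_coprime (H := ⊥) (i := 2) (eq_one_of_odd (isPGroup_cj g h.pS) (pow_two l ▸ h8)
    (ho.of_dvd_nat (orderOf_pow_dvd 2))) (pow_orderOf_eq_one l) ((Nat.coprime_two_left).2 ho)

theorem inc (ht : t ∈ cj x A) (h1 : t ≠ 1) (h2 : t ∈ cj g (A ⊔ B)) : ∃ m ∈ 𝐍(B), x⁻¹ * (g * m) ∈ 𝐍(A) := by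
  have t2 := (h.conj x).sq t ht
  rw [mem_cj] at ht h2
  have h3 : g⁻¹ * t * g ≠ 1 := fun e => h1 (by simpa [mul_assoc] using congrArg (fun z => g * z * g⁻¹) e)
  rcases h.inv_S h2 (by
    calc g⁻¹ * t * g * (g⁻¹ * t * g) = g⁻¹ * (t * t) * g := by group
      _ = 1 := by rw [t2]; group) with h4 | h4
  · exact ⟨1, one_mem _, h.ti h4 h3 (by convert ht using 1; group)⟩
  · obtain ⟨c, hc, h5⟩ := h.exists_z
    obtain ⟨m, hm, e⟩ := h.tr' c ⟨hc.2, hc.1⟩ h5 _ h4 h3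
    refine ⟨m, hm, h.ti hc.1 h5 ?_⟩
    rw [show x⁻¹ * (g * m) * c * (x⁻¹ * (g * m))⁻¹ = x⁻¹ * g * (m * c * m⁻¹) * g⁻¹ * x by group, e]
    convert ht using 1; group

theorem fix_coset (hc : c ∈ A ⊓ B) (c1 : c ≠ 1) (hs : s ∈ 𝐂[c]) (ho : Odd (orderOf s)) (ha : a ∈ A) (h1 : a ∉ B)
    (h2 : a⁻¹ * (s * a * s⁻¹) ∈ B) : s = 1 := by
  obtain ⟨hA, hB⟩ := h.cz c hc c1 hs
  have hZ := h.alpha hA hc c1 (by rw [mem_centralizer_singleton_iff.1 hs, mul_inv_cancel_right])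
  obtain ⟨b, hb, h3⟩ := h.toT.symm.exists_a
  have hb' := (mem_normalizer_iff.1 hB b).1 hb
  have key : ∀ a ∈ A, a⁻¹ * (b * a * b⁻¹) = (s * a * s⁻¹)⁻¹ * (s * b * s⁻¹ * (s * a * s⁻¹) * (s * b * s⁻¹)⁻¹) := fun a ha => by
    rw [← mul_inv_cancel_right (a⁻¹ * (b * a * b⁻¹)) s, hZ _ (h.cm' ha hb)]; group
  have h4 := key a ha
  rw [← mul_inv_cancel_left a (s * a * s⁻¹), h.be_mul hb' ha (mul_mem (inv_mem ha) ((mem_normalizer_iff.1 hA a).1 ha)),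
    h.toT.symm.comm hb' h2, mul_inv_cancel_right, inv_mul_cancel, mul_one] at h4
  refine eq_one_of_odd h.pS (h.cA ▸ h.chain.le ⟨St.mk inf_le_left fun x hx => ?_, hZ⟩) ho
  have hx' := (mem_normalizer_iff.1 hA x).1 hx
  refine mem_inf.2 ⟨mul_mem (inv_mem hx) hx', ?_⟩
  rw [h.inv hx]
  refine h.be_eq_one hb h3 (mul_mem hx hx') ?_
  rw [h.be_mul hb hx hx', h.be_congr hb hb' ha h1 h4 hx', ← key x hx]
  exact h.sqZ _ (h.cm' hx hb)

theorem card_le (hc : c ∈ A ⊓ B) (c1 : c ≠ 1) (hD : D ≤ 𝐂[c]) (ho : ∀ d ∈ D, Odd (orderOf d)) : Nat.card D ≤ 4 := by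
  obtain ⟨a, ha, h1⟩ := h.exists_a
  obtain ⟨b, hb, h2⟩ := h.toT.symm.exists_a
  have hA := fun d : D => (mem_normalizer_iff.1 (h.cz c hc c1 (hD d.2)).1 a).1 ha
  refine h.cZ ▸ Nat.card_le_card_of_injective (fun d : D => (⟨_, h.cm' (hA d) hb⟩ : ↥(A ⊓ B))) fun x y e => ?_
  have h3 := mul_mem (inv_mem y.2) x.2
  refine Subtype.ext (inv_mul_eq_one.1 (h.fix_coset hc c1 (hD h3) (ho _ h3) ha h1 ?_)).symm
  have h4 := h.be_eq_one hb h2 (mul_mem (hA y) (hA x)) (by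
    rw [h.be_mul hb (hA y) (hA x), Subtype.mk.inj e]
    exact h.sqZ _ (h.cm' (hA y) hb))
  rw [← h.inv (hA y)] at h4
  convert (mem_normalizer_iff''.1 (h.cz c hc c1 (hD y.2)).2 _).1 h4 using 1; group

theorem scalar (hc : c ∈ A ⊓ B) (hl : l ∈ 𝐍(A ⊓ B)) (hK : ∀ a ∈ A, a ≠ 1 → ∃ k ∈ 𝐍(A), Commute l k ∧ k * c * k⁻¹ = a)
    (hb : b ∈ B) : b⁻¹ * (l * b * l⁻¹) ∈ A := by
  obtain ⟨a, ha, h1⟩ := h.exists_a
  obtain ⟨hA, hB⟩ := h.NZ_eq.le hl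
  have key : ∀ a ∈ A, a ≠ 1 → ∃ k ∈ 𝐍(A), a ∈ A ⊓ cj k B ∧ l * a * l⁻¹ ∈ A ⊓ cj k B := fun a ha a1 => by
    obtain ⟨k, hk, e, rfl⟩ := hK a ha a1
    refine ⟨k, hk, ⟨ha, conj_mem_cj k hc.2⟩, (mem_normalizer_iff.1 hA _).1 ha, ?_⟩
    rw [show l * (k * c * k⁻¹) * l⁻¹ = l * k * c * (l * k)⁻¹ by group, e.eq, show k * l * c * (k * l)⁻¹ = k * (l * c * l⁻¹) * k⁻¹ by group]
    exact conj_mem_cj k ((mem_normalizer_iff.1 hl c).1 hc).2
  have a1 : a ≠ 1 := fun e => h1 (e ▸ one_mem _)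
  have hbA := h.nA (mem_sup_right hb)
  obtain ⟨k, hk, h2, h3⟩ := key a ha a1
  obtain ⟨k', hk', h4, h5⟩ := key _ ((mem_normalizer_iff.1 hbA a).1 ha) (by simpa using a1)
  rw [(h.conjN hk').ti' (h.conjN (mul_mem hbA hk)) h4 (cj_mul b k B ▸ conj_mem_cj b h2.2) (by simpa using a1), cj_mul] at h5
  have h6 := mul_mem (inv_mem hb) ((mem_normalizer_iff.1 hB b).1 hb)
  by_contra h7
  refine h1 ((h.ti' (h.conjN hk) (h.cm' h3.1 h6) (mul_mem (inv_mem h3.2) ?_) fun e => h1 ?_).ge h2).2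
  · convert mem_cj.1 h5.2 using 1; group
  · exact (mem_normalizer_iff.1 hB a).2 (h.be_eq_one h6 h7 h3.1 e)

theorem collinear (y : G) : ∃ g, (∃ m ∈ 𝐍(B), g * m ∈ 𝐍(A)) ∧ ∃ m ∈ 𝐍(B), y⁻¹ * (g * m) ∈ 𝐍(A) := by
  classical
  by_contra hcon
  obtain ⟨c, hc, c1⟩ := h.exists_z
  have hP := h.conj y
  have hno : ∀ u, orderOf u = 2 → ∀ w ∈ A, w ≠ 1 → ∀ p ∈ cj y A, p ≠ 1 → Commute u w → Commute u p → False := by
    intro u hu w hw h6 p hp h7 e1 e2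
    obtain ⟨g, rfl⟩ := h.exists_conj h.tr h.tr' hc c1 hu
    exact hcon ⟨g, by simpa using h.inc (x := 1) (by rwa [cj_one]) h6 (h.cent_S hc c1 e1 (h.sq w hw)),
      h.inc hp h7 (h.cent_S hc c1 e2 (hP.sq p hp))⟩
  have swap : ∀ w ∈ A, w ≠ 1 → ∀ p ∈ cj y A, p ≠ 1 →
      ∃ t, t * t = 1 ∧ t * w * t⁻¹ = p ∧ cj t A = cj y A ∧ cj t (cj y A) = A := by
    intro w hw h6 p hp h7
    have w2 := h.sq w hw
    have p2 := hP.sq p hp
    have ho : Odd (orderOf (w * p)) := Nat.not_even_iff_odd.1 fun he =>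
      let ⟨e1, e2, e3⟩ := exists_central_of_even w2 p2 he
      hno _ e1 w hw h6 p hp h7 e2 e3
    obtain ⟨m, e⟩ := exists_conj_of_odd w2 p2 ho
    have t2 : (w * p) ^ m * w * ((w * p) ^ m * w) = 1 := by
      calc (w * p) ^ m * w * ((w * p) ^ m * w) = (w * p) ^ m * (w * (w * p) ^ m * w⁻¹) * (w * w) := by group
        _ = 1 := by rw [conj_pow_of_inv (left_inverts w2 p2), w2]; group
    have e1 : (w * p) ^ m * w * w * ((w * p) ^ m * w)⁻¹ = p := Eq.trans (by group) e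
    generalize (w * p) ^ m * w = t at t2 e1
    have e2 : cj t A = cj y A := by
      have := h.ti (x := y⁻¹ * t) hw h6 (by
        rw [show y⁻¹ * t * w * (y⁻¹ * t)⁻¹ = y⁻¹ * (t * w * t⁻¹) * y by group, e1]; exact mem_cj.1 hp)
      rw [← mul_inv_cancel_left y t, cj_mul, cj_of_mem_normalizer this]
    exact ⟨t, t2, e1, e2, by rw [← e2, ← cj_mul, t2, cj_one]⟩
  obtain ⟨p, hp, hp1⟩ := hP.exists_z
  obtain ⟨t, t2, -, e1, e2⟩ := swap c hc.1 c1 p hp.1 hp1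
  have htr : ∀ v ∈ A, v ≠ 1 → ∃ l ∈ 𝐍(A) ⊓ 𝐍(cj y A), t * l * t⁻¹ = l⁻¹ ∧ l * c * l⁻¹ = v := by
    intro v hv h6
    obtain ⟨u, u2, e3, e4, e5⟩ := swap c hc.1 c1 (t * v * t⁻¹) (e1 ▸ conj_mem_cj t hv) fun e => h6 (by simpa using e)
    refine ⟨t * u, ⟨cj_eq_self_iff.1 (by rw [cj_mul, e4, e2]), cj_eq_self_iff.1 (by rw [cj_mul, e5, e1])⟩, left_inverts t2 u2, ?_⟩
    calc t * u * c * (t * u)⁻¹ = t * (u * c * u⁻¹) * t⁻¹ := by group
      _ = (t * t) * v * (t * t)⁻¹ := by rw [e3]; group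
      _ = v := by rw [t2]; group
  have hodd : ¬ 2 ∣ Nat.card ↥(𝐍(A) ⊓ 𝐍(cj y A)) := fun e => by
    obtain ⟨d, hd⟩ := exists_prime_orderOf_dvd_card' 2 e
    replace hd := (orderOf_coe d).trans hd
    obtain ⟨w, hw, h8, h9⟩ := fix_inv h.sq (mul_self_of_two hd) d.2.1 hc.1 c1
    obtain ⟨p, hp, h8', h9'⟩ := fix_inv hP.sq (mul_self_of_two hd) d.2.2 hp.1 hp1
    exact hno _ hd w hw h8 p hp h8' h9 h9'
  generalize hDe : 𝐍(A) ⊓ 𝐍(cj y A) = D at htr hodd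
  have hD : D ≤ 𝐍(A) := hDe ▸ inf_le_left
  have ho : ∀ d ∈ D, Odd (orderOf d) := fun d hd => Nat.odd_iff.2 (Nat.two_dvd_ne_zero.1 fun e => hodd (e.trans (orderOf_dvd_natCard _ hd)))
  have h1 := Exc.card_eq_of_trans hD hc.1 c1 fun v hv v1 => (htr v hv v1).imp fun l hl => ⟨hl.1, hl.2.2⟩
  have h2 := h.card_le hc c1 (D := D ⊓ 𝐂[c]) inf_le_right fun d hd => ho d hd.1
  rw [h.c] at h1
  have h3 : Nat.card ↥(D ⊓ 𝐂[c]) = 1 ∨ Nat.card ↥(D ⊓ 𝐂[c]) = 3 := by omega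
  obtain ⟨v, hv, v1, cv⟩ := h.exists_ne hc c1
  obtain ⟨l, hl, e3, e4⟩ := htr v hv.1 v1
  have hR : ∀ i : ℕ, ∀ w, w * w = 1 → w ≠ 1 → Commute (l ^ i) w → l ^ i = 1 := fun i w =>
    h.real (ho _ (pow_mem hl i)) t2 (conj_pow_of_inv e3 i)
  have l1 : l ≠ 1 := fun e => cv (by simpa [e] using e4)
  have hlZ := h.toT.ti (hD hl) hc c1 (e4 ▸ hv.2)
  have l3 : l ^ 3 = 1 := hR 3 c (h.sqZ c hc) c1 (by
    have e5 : l * v * l⁻¹ = c * v := by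
      rcases four h.cZ hc hv c1 v1 cv (h.sqZ c hc) ((mem_normalizer_iff.1 hlZ v).1 hv) with e | e | e | e
      · exact absurd (by simpa using e) v1
      · refine absurd (mem_of_coprime (H := ⊥) (hR 2 c (h.sqZ c hc) c1 (mul_inv_eq_iff_eq_mul.1 ?_)) (pow_orderOf_eq_one l)
          ((Nat.coprime_two_left).2 (ho l hl))) l1
        rw [show l ^ 2 * c * (l ^ 2)⁻¹ = l * (l * c * l⁻¹) * l⁻¹ by rw [pow_two]; group, e4, e]
      · exact absurd (by simpa using e4.trans e.symm) cv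
      · exact e
    refine mul_inv_eq_iff_eq_mul.1 ?_
    rw [show l ^ 3 * c * (l ^ 3)⁻¹ = l * (l * (l * c * l⁻¹) * l⁻¹) * l⁻¹ by rw [pow_three]; group, e4, e5,
      show l * (c * v) * l⁻¹ = l * c * l⁻¹ * (l * v * l⁻¹) by group, e4, e5, h.comm hc.1 hv.1, ← mul_assoc, h.sqZ v hv, one_mul])
  obtain ⟨x, hx, x5, hlx⟩ := five (by omega) hl (ho l hl)
  have : Fact (Nat.Prime 3) := ⟨Nat.prime_three⟩
  have h4 : zpowers (l * x) ≤ D := zpowers_le.2 (mul_mem hl hx)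
  have h5 : zpowers (l * x) ⊓ 𝐂[c] = ⊥ := eq_bot_iff.2 fun s hs => by
    obtain ⟨j, rfl⟩ := (mem_zpowers_iff_mem_range_orderOf.1 hs.1 |> Finset.mem_image.1).imp fun j hj => hj.2
    have e5 : ((l * x) ^ j) ^ 5 = l ^ (j * 5) := by
      rw [← pow_mul, hlx.mul_pow, mul_comm j, pow_mul x, ← x5, pow_orderOf_eq_one, one_pow, mul_one]
    refine mem_of_coprime (H := ⊥) (i := 3) (j := 5) (orderOf_dvd_iff_pow_eq_one.1
      ((orderOf_dvd_natCard (D ⊓ 𝐂[c]) ⟨h4 hs.1, hs.2⟩).trans (by rcases h3 with e | e <;> rw [e] <;> norm_num))) ?_ (by norm_num)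
    exact e5.trans (hR _ c (h.sqZ c hc) c1 (e5 ▸ mem_cent.1 (pow_mem hs.2 5)))
  have h6 := BN.card_eq_ncard_conj_mul (zpowers (l * x)) c
  rw [h5, card_bot, mul_one, Nat.card_zpowers, hlx.orderOf_mul_eq_mul_orderOf_of_coprime (by
    rw [orderOf_eq_prime l3 l1, x5]; norm_num), orderOf_eq_prime l3 l1, x5] at h6
  have h7 := Set.eq_of_subset_of_ncard_le (s := {y | ∃ k ∈ zpowers (l * x), k * c * k⁻¹ = y}) (t := (A : Set G) \ {1}) (by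
    rintro _ ⟨k, hk, rfl⟩
    exact ⟨(mem_normalizer_iff.1 (hD (h4 hk)) c).1 hc.1, by simpa using c1⟩) (by
    rw [← h6, Set.ncard_sdiff_singleton_of_mem (one_mem A), ← Nat.card_coe_set_eq, SetLike.coe_sort_coe, h.c])
  have h8 := fun b => h.scalar (b := b) hc hlZ fun a ha a1 => by
    obtain ⟨k, hk, e⟩ := h7.ge (show a ∈ (A : Set G) \ {1} from ⟨ha, a1⟩)
    obtain ⟨j, rfl⟩ := mem_zpowers_iff.1 hk
    exact ⟨_, hD (h4 hk), ((Commute.refl l).mul_right hlx).zpow_right j, e⟩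
  obtain ⟨b, hb, h9⟩ := h.toT.symm.exists_a
  have hB := (h.NZ_eq.le hlZ).2
  have b1 := (mem_normalizer_iff.1 hB _).1 hb
  have b2 := (mem_normalizer_iff.1 hB _).1 b1
  refine l1 ((pow_one l).symm.trans (hR 1 _ (h.sq' _ (mul_mem hb (mul_mem b1 b2))) (fun e => h9 ?_) (mul_inv_eq_iff_eq_mul.1 ?_)))
  · rw [eq_inv_of_mul_eq_one_left e, inv_mem_iff]
    simpa only [h.toT.symm.inv b1] using h8 _ b1
  · rw [pow_one, h.toT.symm.comm hb (mul_mem b1 b2)]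
    calc _ = l * b * l⁻¹ * (l * (l * b * l⁻¹) * l⁻¹) * (l ^ 3 * b * (l ^ 3)⁻¹) := by
          rw [← h.toT.symm.comm hb (mul_mem b1 b2), pow_three]; group
      _ = _ := by rw [l3]; group

end Mn

end Cfsg.Lib.L34
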